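import Groth.Agent.StFib.RatLift.QuotPoints
import Groth.Agent.StFib.QAffChart
import Groth.Agent.StFib.LocQBasic
import Groth.Agent.Hensel.SmoothLift
import Groth.Agent.Hensel.Pair

/-!
# Smooth stacks over a henselian local base
-/

set_option autoImplicit false
set_option linter.unusedVariables false
set_option backward.isDefEq.respectTransparency false
set_option backward.isDefEq.respectTransparency.types false

universe u

open CategoryTheory CategoryTheory.Limits AlgebraicGeometry Opposite FibCat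
open Groth.Agent.StFib

namespace Groth.Agent.StFib.RatLift

variable {S : Scheme.{u}} {𝒳 : AlgSt.Cat S}

/-- A scheme whose map to the base is smooth as a functor is smooth. -/
theorem smooth_hom_of_rep_toSelf {V : Over S} {y : overCat V ⥤ᵇ selfOver (C := Over S)}
    (hy : AlgSt.RepByAlgSpWith (AlgSp.LocP @Smooth) y) : Smooth V.hom := by
  let T₀ : Over S := Over.mk (𝟙 S)
  let E : overCat T₀ ⥤ᵇ selfOver (C := Over S) := toSelf (overCat T₀)
  have hu : ∀ {T : Over S} (a b : T ⟶ T₀), a = b := fun a b =>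
    Over.OverMorphism.ext (((Category.comp_id _).symm.trans (over_w a)).trans
      ((over_w b).symm.trans (Category.comp_id _)))
  have : E.toFunctor.Faithful := ⟨fun h => Over.OverMorphism.ext h⟩
  have : E.toFunctor.Full := ⟨fun {a b} g => ⟨Over.homMk g (hu _ _), rfl⟩⟩
  have hE : IsEquivOver E := isEquivOver_mk _ fun (T : Over S) =>
    ⟨Over.mk (Over.homMk T.hom (Category.comp_id _) : T ⟶ T₀), Iso.refl _, Vert.id _⟩
  let h : V ⟶ T₀ := Over.homMk V.hom (Category.comp_id _)
  obtain ⟨i⟩ := exists_iso_toSelf y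
  obtain ⟨d, hd, ⟨q⟩, -⟩ := isEquivOver_symm hE
  have h1 : AlgSt.RepByAlgSpWith (AlgSp.LocP @Smooth) (AlgSt.overMap h) :=
    (repByAlgSpWith_iff_of_equiv _ (BasedFunctor.id _) d (isEquivOver_id _) hd
      (f := AlgSt.overMap h) (f' := toSelf (overCat V)) (isoWhiskerLeft (AlgSt.overMap h) q)).2
      (repByAlgSpWith_of_iso _ i hy)
  exact mem_scheme_of_overMap Groth.Agent.AlgSpCov.standard_smooth h1

/-- The source of a smooth chart of a smooth stack is smooth over the base. -/
theorem smooth_hom_of_chart {τ : Precoverage Scheme.{u}} (h : AlgSt.IsAlgStack τ 𝒳)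
    (hsm : AlgSt.LocQ (AlgSp.LocP @Smooth) (toSelf 𝒳)) {Z : Over S} {p : overCat Z ⥤ᵇ 𝒳}
    (hp : AlgSt.RepByAlgSpWith (AlgSp.LocP @Smooth) p) : Smooth Z.hom := by
  obtain ⟨U, V, x, y, k, -, hx, hxs, hy, hk⟩ := hsm
  have : Smooth V.hom := smooth_hom_of_rep_toSelf hy
  have : Smooth k.left := scheme_mem_of_locP hk
  have : Smooth U.hom := by rw [← Over.w k]; infer_instance
  obtain ⟨W, a, b, -, ha, hb, hsurj, -⟩ := exists_chart_fp_smooth h hx hp
  have := hsurj hxs
  have h2 : Smooth (b.left ≫ Z.hom) := by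
    rw [Over.w b, ← Over.w a]
    infer_instance
  let T₀ : Over S := Over.mk (𝟙 S)
  let q : Z ⟶ T₀ := Over.homMk Z.hom (Category.comp_id _)
  have hl : ∀ {A B : Over S} (f : A ⟶ B), Smooth f.left → AlgSp.LocP (S := S) @Smooth ((AlgSp.yon S).map f) :=
    fun f hf => Groth.Agent.AlgSpCov.locP_of_repWith Groth.Agent.AlgSpCov.standard_smooth.etaleLocal
      ((AlgSp.repWith_yon_map_iff _ _).2 hf)
  have h3 := smooth_of_cover (isAlgSpace_yon W) (isAlgSpace_yon Z) (isAlgSpace_yon T₀)
    ((AlgSp.yon S).map b) ((AlgSp.yon S).map q) (hl b hb)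
    (isSurjectiveMor_of_repWith ((AlgSp.repWith_yon_map_iff _ _).2 this)) (by
      rw [← Functor.map_comp]
      exact hl (b ≫ q) h2)
  exact scheme_mem_of_locP h3

/-- Sections of a smooth scheme over a henselian local ring extend from closed subschemes. -/
theorem exists_section_extending {R : Type u} [CommRing R] [HenselianLocalRing R] {X : Scheme.{u}}
    (f : X ⟶ Spec (CommRingCat.of R)) [Smooth f] (a : Ideal R) (ha : a ≠ ⊤)
    (u₀ : Spec (CommRingCat.of (R ⧸ a)) ⟶ X) (h₀ : u₀ ≫ f = Spec.map (CommRingCat.ofHom (Ideal.Quotient.mk a))) :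
    ∃ u : Spec (CommRingCat.of R) ⟶ X, u ≫ f = 𝟙 _ ∧
      Spec.map (CommRingCat.ofHom (Ideal.Quotient.mk a)) ≫ u = u₀ := by
  have : Nontrivial (R ⧸ a) := Ideal.Quotient.nontrivial_iff.2 ha
  have : IsLocalRing (R ⧸ a) := IsLocalRing.of_surjective' (Ideal.Quotient.mk a) Ideal.Quotient.mk_surjective
  obtain ⟨U, hU, hxU, -⟩ := exists_isAffineOpen_mem_and_subset
    (show u₀ (IsLocalRing.closedPoint (R ⧸ a)) ∈ (⊤ : X.Opens) from trivial)
  have hrange : Set.range u₀ ⊆ Set.range hU.fromSpec := by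
    rintro _ ⟨w, rfl⟩
    rw [hU.range_fromSpec]
    exact (IsLocalRing.specializes_closedPoint w).map u₀.continuous |>.mem_open U.2 hxU
  let v := IsOpenImmersion.lift hU.fromSpec u₀ hrange
  obtain ⟨φ, hφ⟩ := Spec.map_surjective (hU.fromSpec ≫ f)
  have hsm : φ.hom.Smooth := by
    have : Smooth (Spec.map φ) := by rw [hφ]; infer_instance
    exact (HasRingHomProperty.Spec_iff (P := @Smooth)).1 this
  obtain ⟨ψ, hψ⟩ := Spec.map_surjective v
  letI : Algebra R Γ(X, U) := φ.hom.toAlgebra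
  haveI : Algebra.Smooth R Γ(X, U) := RingHom.smooth_algebraMap.1 hsm
  have : HenselianRing R a := Groth.Agent.Hensel.henselianRing_of_le (IsLocalRing.le_maximalIdeal ha)
  have hc : φ ≫ ψ = CommRingCat.ofHom (Ideal.Quotient.mk a) := by
    apply Spec.map_injective
    rw [Spec.map_comp, hψ, hφ, ← Category.assoc, IsOpenImmersion.lift_fac, h₀]
  let σ : Γ(X, U) →ₐ[R] R ⧸ a :=
    { toRingHom := ψ.hom
      commutes' := fun r => RingHom.congr_fun (congrArg CommRingCat.Hom.hom hc) r }
  obtain ⟨τ, hτ⟩ := Groth.Agent.Hensel.exists_algHom_lift_smooth (I := a) _ σ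
  refine ⟨Spec.map (CommRingCat.ofHom τ.toRingHom) ≫ hU.fromSpec, ?_, ?_⟩
  · rw [Category.assoc, ← hφ, ← Spec.map_comp, ← Spec.map_id]
    congr 1
    ext r
    exact τ.commutes r
  · rw [← Category.assoc, ← Spec.map_comp, show CommRingCat.ofHom τ.toRingHom ≫
      CommRingCat.ofHom (Ideal.Quotient.mk a) = ψ from CommRingCat.hom_ext (RingHom.ext fun x =>
        DFunLike.congr_fun hτ x), hψ, IsOpenImmersion.lift_fac]

end Groth.Agent.StFib.RatLift
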