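import Groth.Agent.StFib.RatLift.Galois
import Groth.Agent.StFib.SmoothLocal
import Groth.Agent.StFib.DescBase
import Groth.Agent.StFib.AtlasProps
import Groth.Agent.WittLib.Basic
import Groth.Prelude.Def_AlgSt
import Mathlib.FieldTheory.PrimitiveElement

/-!
# A smooth parameter scheme with free Galois action and an equivariant point
-/

set_option autoImplicit false
set_option linter.unusedVariables false
set_option backward.isDefEq.respectTransparency false
set_option backward.isDefEq.respectTransparency.types false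

universe u

open CategoryTheory CategoryTheory.Limits AlgebraicGeometry Opposite FibCat

namespace Groth.Agent.StFib.RatLift

variable {S : Scheme.{u}}

/-- Etale surjective morphisms generate covering sieves of the etale topology. -/
theorem mem_etale {W Z : Over S} (c : W ⟶ Z) [Etale c.left] [Surjective c.left] :
    Sieve.generate (Presieve.singleton c) ∈ QuotSh.J Scheme.etalePrecoverage S Z := by
  have hR : Presieve.singleton c.left ∈ Scheme.etalePrecoverage Z.left := by
    rw [Scheme.etalePrecoverage, Scheme.singleton_mem_precoverage_iff]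
    exact ⟨c.left.surjective, inferInstance⟩
  change Sieve.overEquiv Z (Sieve.generate (Presieve.singleton c)) ∈ Scheme.etalePrecoverage.toGrothendieck Z.left
  refine GrothendieckTopology.superset_covering _ ?_ (Precoverage.generate_mem_toGrothendieck hR)
  rw [Sieve.generate_le_iff]
  intro W' g hg
  cases hg
  refine (Sieve.overEquiv_iff _ _).2 ⟨W, Over.homMk (𝟙 W.left) ?_, c, Presieve.singleton_self c, ?_⟩
  · exact (Category.id_comp _).trans (Over.w c).symm
  · exact Over.OverMorphism.ext (Category.id_comp _)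

/-- Representable slices. -/
theorem repByAlgSpWith_overMap {P : MorphismProperty Scheme.{u}} (hP : Groth.Agent.AlgSpCov.Standard P)
    {A B : Over S} (f : A ⟶ B) (hf : P f.left) :
    AlgSt.RepByAlgSpWith (AlgSp.LocP P) (AlgSt.overMap f) :=
  (repByAlgSpWith_iff_of_equiv _ (AlgSt.toOverCat A) (AlgSt.toOverCat B) (toOverCat_isEquivOver A)
    (toOverCat_isEquivOver B) (toOverCatIso f)).2
    (repByAlgSpWith_ofSpMap (good_locP hP).bc (isAlgSpace_yon A) (isAlgSpace_yon B) _
      (Groth.Agent.AlgSpCov.locP_of_repWith hP.etaleLocal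
        (have := hP.bc; (AlgSp.repWith_yon_map_iff _ _).2 hf)))

theorem repByAlgSpWith_overMap_surjective {A B : Over S} (f : A ⟶ B) [Surjective f.left] :
    AlgSt.RepByAlgSpWith AlgSp.IsSurjectiveMor (AlgSt.overMap f) :=
  (repByAlgSpWith_iff_of_equiv _ (AlgSt.toOverCat A) (AlgSt.toOverCat B) (toOverCat_isEquivOver A)
    (toOverCat_isEquivOver B) (toOverCatIso f)).2
    (repByAlgSpWith_ofSpMap good_surjective.bc (isAlgSpace_yon A) (isAlgSpace_yon B) _
      (isSurjectiveMor_of_repWith ((AlgSp.repWith_yon_map_iff _ _).2 (inferInstance : Surjective f.left))))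

/-- Smoothness is smooth local on the source. -/
theorem smooth_of_cover {V A B : AlgSp.Sp S} (hV : AlgSp.IsAlgSpace V) (hA : AlgSp.IsAlgSpace A)
    (hB : AlgSp.IsAlgSpace B) (b : V ⟶ A) (a : A ⟶ B) (hb : AlgSp.LocP @Smooth b)
    (hbs : AlgSp.IsSurjectiveMor b) (h : AlgSp.LocP @Smooth (b ≫ a)) : AlgSp.LocP @Smooth a := by
  refine ((isSmoothLocalST_locP smoothLocalProp_smooth).locality hA hB a).2 fun x => ?_
  obtain ⟨v, hv⟩ := hbs x
  exact ⟨V, B, b, 𝟙 B, b ≫ a, v, hV, hB, hb,
    Groth.Agent.AlgSpCov.locP_of_repWith Groth.Agent.AlgSpCov.standard_smooth.etaleLocal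
      (repWith_of_isIso @Smooth), (Category.comp_id _).symm, hv, h⟩

variable {k : Type u} [Field k] (σ : Spec (CommRingCat.of k) ⟶ S) (L : Type u) [Field L] [Algebra k L]
  [FiniteDimensional k L] [IsGalois k L]

/-- A smooth scheme with free Galois action and an equivariant point. -/
theorem exists_free_param :
    ∃ (P : Over S) (act : (L ≃ₐ[k] L) → (P ⟶ P)) (τ : extPt σ L ⟶ P),
      Smooth P.hom ∧ act 1 = 𝟙 P ∧ (∀ γ γ', act (γ * γ') = act γ ≫ act γ') ∧
      (∀ γ, galθ σ γ ≫ τ = τ ≫ act γ) ∧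
      ∀ (T : Over S) [Nonempty T.left] (b : T ⟶ P) (γ : L ≃ₐ[k] L), b ≫ act γ = b → γ = 1 := by
  classical
  let G := L ≃ₐ[k] L
  let A : Scheme.{u} := AffineSpace G S
  let q : A ⟶ S := A ↘ S
  let x : G → Γ(A, ⊤) := AffineSpace.coord S
  let O : A.Opens := ⟨⋂ g, ⋂ h, ⋂ (_ : g ≠ h), (A.basicOpen (x g - x h) : Set A),
    isOpen_iInter_of_finite fun g => isOpen_iInter_of_finite fun h =>
      isOpen_iInter_of_finite fun _ => (A.basicOpen (x g - x h)).2⟩
  have hO : ∀ {T : Scheme.{u}} (f : T ⟶ A),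
      (∀ t, f t ∈ O) ↔ ∀ g h, g ≠ h → IsUnit (f.appTop (x g) - f.appTop (x h)) := fun {T} f => by
    have e : ∀ g h, f ⁻¹ᵁ A.basicOpen (x g - x h) = T.basicOpen (f.appTop (x g) - f.appTop (x h)) := fun g h => by
      rw [Scheme.preimage_basicOpen_top, map_sub]
    constructor
    · intro H g h hgh
      refine T.toRingedSpace.isUnit_of_isUnit_germ ⊤ _ fun t _ => (T.mem_basicOpen_top _ t).1 ?_
      rw [← e]
      exact Set.mem_iInter.1 (Set.mem_iInter.1 (Set.mem_iInter.1 (H t) g) h) hgh
    · intro H t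
      refine Set.mem_iInter.2 fun g => Set.mem_iInter.2 fun h => Set.mem_iInter.2 fun hgh => ?_
      have h2 : t ∈ f ⁻¹ᵁ A.basicOpen (x g - x h) := by
        rw [e]
        exact (T.mem_basicOpen_top _ t).2 ((H g h hgh).map (T.presheaf.germ ⊤ t trivial).hom)
      exact h2
  let P : Over S := Over.mk (O.ι ≫ q)
  let w : ∀ {T : Over S} (b : T ⟶ P), G → Γ(T.left, ⊤) := fun b g => (b.left ≫ O.ι).appTop (x g)
  have hext : ∀ {T : Over S} (b b' : T ⟶ P), w b = w b' → b = b' := fun {T} b b' e => by
    refine Over.OverMorphism.ext ((cancel_mono O.ι).1 (AffineSpace.hom_ext (S := S) (n := G) ?_ fun g => congrFun e g))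
    rw [Category.assoc, Category.assoc]
    exact (Over.w b).trans (Over.w b').symm
  have hmk : ∀ {T : Over S} (v : G → Γ(T.left, ⊤)), (∀ g h, g ≠ h → IsUnit (v g - v h)) →
      ∃ b : T ⟶ P, w b = v := fun {T} v hv => by
    let f : T.left ⟶ A := AffineSpace.homOfVector T.hom v
    have hf : ∀ g, f.appTop (x g) = v g := fun g => AffineSpace.homOfVector_appTop_coord _ _ _
    have hfO : Set.range f ⊆ Set.range O.ι := by
      rintro _ ⟨t, rfl⟩
      rw [Scheme.Opens.range_ι]
      exact (hO f).2 (fun g h hgh => by rw [hf, hf]; exact hv g h hgh) t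
    refine ⟨Over.homMk (IsOpenImmersion.lift O.ι f hfO) ?_, funext fun g => ?_⟩
    · change IsOpenImmersion.lift O.ι f hfO ≫ O.ι ≫ q = T.hom
      rw [IsOpenImmersion.lift_fac_assoc]
      exact AffineSpace.homOfVector_over _ _
    · change (IsOpenImmersion.lift O.ι f hfO ≫ O.ι).appTop (x g) = v g
      rw [IsOpenImmersion.lift_fac, hf]
  have hcomp : ∀ {T' T : Over S} (κ : T' ⟶ T) (b : T ⟶ P) (g : G), w (κ ≫ b) g = κ.left.appTop (w b g) :=
    fun κ b g => rfl
  have hu : ∀ {T : Over S} (b : T ⟶ P) (g h : G), g ≠ h → IsUnit (w b g - w b h) := fun b g h hgh =>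
    (hO (b.left ≫ O.ι)).1 (fun t => (b.left t).2) g h hgh
  have hact : ∀ γ : G, ∃ a : P ⟶ P, ∀ g, w a g = w (𝟙 P) (γ * g) := fun γ => by
    obtain ⟨a, ha⟩ := hmk (fun g => w (𝟙 P) (γ * g)) fun g h hgh => hu _ _ _ fun e => hgh (mul_left_cancel e)
    exact ⟨a, congrFun ha⟩
  choose act hact using hact
  have hb : ∀ {T : Over S} (b : T ⟶ P) (γ : G) (g : G), w (b ≫ act γ) g = w b (γ * g) := fun b γ g => by
    rw [hcomp, hact, ← hcomp, Category.comp_id]
  obtain ⟨θ₀, hθ₀⟩ := Field.exists_primitive_element k L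
  have hinj : ∀ g h : G, g θ₀ = h θ₀ → g = h := fun g h e => by
    let f := h⁻¹ * g
    have hf : f θ₀ = θ₀ := by
      change h.symm (g θ₀) = θ₀
      rw [e]; exact h.symm_apply_apply θ₀
    have : f = 1 := AlgEquiv.ext fun y => show f y = y by
      have hy : y ∈ IntermediateField.adjoin k {θ₀} := hθ₀ ▸ IntermediateField.mem_top
      induction hy using IntermediateField.adjoin_induction with
      | mem z hz => obtain rfl := hz; exact hf
      | algebraMap r => exact f.commutes r
      | add a b _ _ ha hb => rw [map_add, ha, hb]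
      | inv a _ ha => rw [map_inv₀, ha]
      | mul a b _ _ ha hb => rw [map_mul, ha, hb]
    exact (inv_mul_eq_one.1 this).symm
  let e := (Scheme.ΓSpecIso (CommRingCat.of L)).inv
  obtain ⟨τ, hτ⟩ := hmk (T := extPt σ L) (fun g => e (g θ₀)) fun g h hgh => by
    change IsUnit (e (g θ₀) - e (h θ₀))
    rw [← map_sub]
    exact (IsUnit.mk0 (g θ₀ - h θ₀) (sub_ne_zero.2 fun e' => hgh (hinj g h e'))).map e.hom
  refine ⟨P, act, τ, ?_, hext _ _ (funext fun g => by rw [hact, one_mul]),
    fun γ γ' => hext _ _ (funext fun g => by rw [hact, hb, hact, mul_assoc]),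
    fun γ => hext _ _ (funext fun g => ?_), fun T _ b γ hbγ => ?_⟩
  · have : Smooth q := Groth.Agent.WittLib.Basic.smooth_affineSpace G S
    exact inferInstanceAs (Smooth (O.ι ≫ q))
  · rw [hcomp, hb, congrFun hτ, congrFun hτ]
    have n := Scheme.ΓSpecIso_inv_naturality (CommRingCat.ofHom (γ : L →+* L))
    exact (ConcreteCategory.congr_hom n (g θ₀)).symm
  · by_contra hne
    have h1 : w b γ = w b 1 := by
      have := hb b γ 1
      rw [hbγ, mul_one] at this
      exact this.symm
    have h2 := hu b γ 1 hne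
    rw [h1, sub_self] at h2
    obtain ⟨t⟩ := ‹Nonempty T.left›
    have h3 := h2.map (T.left.presheaf.germ ⊤ t trivial).hom
    rw [map_zero] at h3
    exact not_isUnit_zero h3

end Groth.Agent.StFib.RatLift
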