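import Groth.Agent.StFib.RatLift.Lift
import Groth.Agent.StFib.QuotEtale

/-!
# Points of algebraic stacks with values in a field lift to smooth affine charts
-/

set_option autoImplicit false
set_option linter.unusedVariables false
set_option backward.isDefEq.respectTransparency false
set_option backward.isDefEq.respectTransparency.types false

universe u

open CategoryTheory CategoryTheory.Limits AlgebraicGeometry Opposite FibCat
open Groth.Agent.IsoCls Groth.Agent.StFib

namespace Groth.Agent.StFib.RatLift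

variable {S : Scheme.{u}} {𝒳 : AlgSt.Cat S}

theorem isStack_etale_of_fppf (h : Stk.IsStack (QuotSh.J Scheme.fppfPrecoverage S) 𝒳) :
    Stk.IsStack (QuotSh.J Scheme.etalePrecoverage S) 𝒳 := by
  refine ⟨h.1, fun {U} R hR => h.2 R ?_⟩
  exact Precoverage.toGrothendieck_mono Groth.Agent.StFib.QuotEt.etale_le_fppf U.left hR

/-- Points with values in a field of a stack with representable diagonal and a smooth atlas lift to
affine smooth charts, without extending the field. -/
theorem exists_rational_lift (h : Stk.IsStack (QuotSh.J Scheme.etalePrecoverage S) 𝒳)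
    (hd : AlgSt.RepByAlgSp1 (diag (toSelf 𝒳))) (hat : AlgSt.HasAtlas (AlgSp.LocP @Smooth) 𝒳)
    {k : Type u} [Field k] (σ : Spec (CommRingCat.of k) ⟶ S) (x : overCat (Over.mk σ) ⥤ᵇ 𝒳) :
    ∃ (Z : Over S) (_ : IsAffine Z.left) (p : overCat Z ⥤ᵇ 𝒳) (g : Over.mk σ ⟶ Z),
      AlgSt.RepByAlgSpWith (AlgSp.LocP @Smooth) p ∧ Nonempty (BasedFunctor.comp (AlgSt.overMap g) p ≅ x) := by
  obtain ⟨V, v, hv, hvs⟩ := hat
  obtain ⟨L, _, _, _, _, u, ⟨ω⟩⟩ := exists_galois_point σ h.1 x v hv hvs
  obtain ⟨sA, w, hA, hw, hβw⟩ := exists_equivariant_sys σ L h.1 u ω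
  obtain ⟨Y, s, act, a, hsm, hact1, hactm, hshift, ha, haγ, hfree⟩ := exists_free_chart σ L h.1 hv sA hA
  exact exists_lift_of_equivariant σ h hd x v hv s act hsm hact1 hactm hshift hfree a sA ha haγ w hw hβw

end Groth.Agent.StFib.RatLift
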