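import Groth.Agent.StFib.RatLift.Basic
import Groth.Agent.StkLib.Glue
import Groth.Agent.GalCohAux.GerbGlue
import Groth.Agent.AlgSp.InfGlue

/-!
# Glueing charts of a stack along a disjoint union
-/

set_option autoImplicit false
set_option linter.unusedVariables false
set_option backward.isDefEq.respectTransparency false
set_option backward.isDefEq.respectTransparency.types false

universe u

open CategoryTheory CategoryTheory.Limits AlgebraicGeometry Opposite FibCat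
open CategoryTheory.Functor Groth.Agent.FibC
open Groth.Agent.StFib

namespace Groth.Agent.StFib.RatLift

variable {S : Scheme.{u}} {𝒳 : AlgSt.Cat S}

theorem bot_mem_J {T : Over S} (hT : IsEmpty T.left) : (⊥ : Sieve T) ∈ AlgSp.J S T := by
  refine GrothendieckTopology.superset_covering _ ?_
    (Groth.Agent.AlgSp.InfGlue.mem_J (ι := PEmpty.{u + 1}) (T := T) (U := fun i => i.elim) (fun i => i.elim)
      (fun i => i.elim) (fun x => (hT.false x).elim))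
  rintro V f ⟨_, _, _, ⟨i⟩, -⟩
  exact i.elim

/-- Lifts of one morphism out of an object over the empty scheme are equal. -/
theorem lift_unique_of_isEmpty (h : Stk.IsPrestack (AlgSp.J S) 𝒳) {R T : Over S} (hR : IsEmpty R.left)
    {x y : 𝒳.obj} (g : R ⟶ T) (f f' : x ⟶ y) (hf : 𝒳.p.IsHomLift g f) (hf' : 𝒳.p.IsHomLift g f') :
    f = f' := by
  obtain ⟨χ, hχ, -, hχ'⟩ := GalCohAux.GerbBasic.exists_fac h.1 g f' f
  have := hf
  have : 𝒳.p.IsHomLift (𝟙 R) (𝟙 x) := IsHomLift.id (IsHomLift.domain_eq 𝒳.p g f)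
  have h1 : χ = 𝟙 x := StkLib.hom_ext_of_local h ⊥ (bot_mem_J hR) χ (𝟙 x) fun _ _ hb => hb.elim
  rw [← hχ', h1, Category.id_comp]

/-- Two objects over the empty scheme are isomorphic. -/
theorem exists_vert_of_isEmpty (h : Stk.IsPrestack (AlgSp.J S) 𝒳) {T : Over S} (hT : IsEmpty T.left)
    {x y : 𝒳.obj} (hx : 𝒳.p.obj x = T) (hy : 𝒳.p.obj y = T) : ∃ θ : x ⟶ y, Vert θ := by
  subst hx
  obtain ⟨φ, hφ, -⟩ := GalCohAux.GerbGlue.exists_glue_hom h hy ⊥ (bot_mem_J hT)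
    (fun z ν hν => hν.elim) (fun z ν hν => hν.elim) (fun z w k ν hν => hν.elim)
  refine ⟨φ, hy.symm, ?_⟩
  have := hφ
  simp [IsHomLift.fac' 𝒳.p (𝟙 (𝒳.p.obj x)) φ]

variable {W : Over S} {ι : Type u} {C : ι → Over S} (ε : ∀ i, C i ⟶ W)

/-- Charts on the pieces of a disjoint union glue. -/
theorem exists_disjoint_glue (h : Stk.IsStack (AlgSp.J S) 𝒳) (hε : ∀ i, IsOpenImmersion (ε i).left)
    (hcov : ∀ x, ∃ i, x ∈ Set.range (ε i).left)
    (hdis : ∀ i j x, x ∈ Set.range (ε i).left → x ∈ Set.range (ε j).left → i = j)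
    (P : ∀ i, overCat (C i) ⥤ᵇ 𝒳) :
    ∃ p : overCat W ⥤ᵇ 𝒳, ∀ i, Nonempty (BasedFunctor.comp (AlgSt.overMap (ε i)) p ≅ P i) := by
  classical
  have hg : IsFibGrpd 𝒳.p := h.1
  have hP : Stk.IsPrestack (AlgSp.J S) 𝒳 := StkLib.isPrestack_of_isStack h
  have hmono : ∀ i, Mono (ε i) := fun i =>
    (Over.forget S).mono_of_mono_map (have := hε i; inferInstanceAs (Mono (ε i).left))
  have heq : ∀ {T : Over S} (s s' : Σ i, T ⟶ C i), s.2 ≫ ε s.1 = s'.2 ≫ ε s'.1 → ¬ IsEmpty T.left → s = s' := by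
    rintro T ⟨i, a⟩ ⟨j, b⟩ e hT
    obtain ⟨z⟩ := not_isEmpty_iff.1 hT
    obtain rfl : i = j := hdis i j ((ε i).left (a.left z)) ⟨_, rfl⟩
      ⟨b.left z, (congrArg (fun k : T ⟶ W => k.left z) e).symm⟩
    have := hmono i
    exact congrArg _ ((cancel_mono (ε i)).1 e)
  let ob : ∀ {T : Over S}, (Σ i, T ⟶ C i) → 𝒳.obj := fun s => (P s.1).obj (Over.mk s.2)
  have hob : ∀ {T : Over S} (s : Σ i, T ⟶ C i), 𝒳.p.obj (ob s) = T := fun s => (P s.1).w_obj (Over.mk s.2)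
  have hθex : ∀ {T : Over S} (s s' : Σ i, T ⟶ C i), s.2 ≫ ε s.1 = s'.2 ≫ ε s'.1 →
      ∃ θ : ob s ⟶ ob s', Vert θ := by
    intro T s s' e
    by_cases hT : IsEmpty T.left
    · exact exists_vert_of_isEmpty hP hT (hob s) (hob s')
    · exact ⟨eqToHom (congrArg ob (heq s s' e hT)), by
        obtain rfl := heq s s' e hT
        exact Vert.id _⟩
  choose θ₀ hθ₀ using @hθex
  let θ : ∀ {T : Over S} (s s' : Σ i, T ⟶ C i), s.2 ≫ ε s.1 = s'.2 ≫ ε s'.1 → (ob s ⟶ ob s') :=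
    fun s s' e => if hs : s = s' then eqToHom (congrArg ob hs) else θ₀ s s' e
  have hθv : ∀ {T : Over S} (s s' : Σ i, T ⟶ C i) (e : s.2 ≫ ε s.1 = s'.2 ≫ ε s'.1), Vert (θ s s' e) := by
    intro T s s' e
    simp only [θ]
    split_ifs with hs
    · subst hs
      exact Vert.id _
    · exact hθ₀ _ _ _
  have hθl : ∀ {T : Over S} (s s' : Σ i, T ⟶ C i) (e : s.2 ≫ ε s.1 = s'.2 ≫ ε s'.1),
      𝒳.p.IsHomLift (𝟙 T) (θ s s' e) := fun s s' e => (hθv s s' e).isHomLift (hob s)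
  have hθ1 : ∀ {T : Over S} (s : Σ i, T ⟶ C i) (e : s.2 ≫ ε s.1 = s.2 ≫ ε s.1), θ s s e = 𝟙 _ :=
    fun s e => by simp [θ]
  have hθm : ∀ {T : Over S} (s s' s'' : Σ i, T ⟶ C i) (e : s.2 ≫ ε s.1 = s'.2 ≫ ε s'.1)
      (e' : s'.2 ≫ ε s'.1 = s''.2 ≫ ε s''.1), θ s s' e ≫ θ s' s'' e' = θ s s'' (e.trans e') := by
    intro T s s' s'' e e'
    by_cases hT : IsEmpty T.left
    · have := hθl s s' e
      have := hθl s' s'' e'
      exact lift_unique_of_isEmpty hP hT (𝟙 T) _ _ inferInstance (hθl _ _ _)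
    · obtain rfl := heq s s' e hT
      obtain rfl := heq s s'' e' hT
      rw [hθ1, Category.id_comp]
  have hθn : ∀ {T' T : Over S} (κ : T' ⟶ T) (s s' : Σ i, T ⟶ C i) (e : s.2 ≫ ε s.1 = s'.2 ≫ ε s'.1)
      (q : (Over.mk (κ ≫ s.2) : (overCat (C s.1)).obj) ⟶ Over.mk s.2)
      (q' : (Over.mk (κ ≫ s'.2) : (overCat (C s'.1)).obj) ⟶ Over.mk s'.2), q.left = κ → q'.left = κ →
      (P s.1).map q ≫ θ s s' e =
        θ ⟨s.1, κ ≫ s.2⟩ ⟨s'.1, κ ≫ s'.2⟩ (by simp only [Category.assoc, e]) ≫ (P s'.1).map q' := by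
    intro T' T κ s s' e q q' hq hq'
    by_cases hT : IsEmpty T'.left
    · have := hθl s s' e
      have := hθl (T := T') ⟨s.1, κ ≫ s.2⟩ ⟨s'.1, κ ≫ s'.2⟩ (by simp only [Category.assoc, e])
      have h1 : 𝒳.p.IsHomLift κ ((P s.1).map q) := by
        have := map_lift (P s.1) q
        rwa [hq] at this
      have h2 : 𝒳.p.IsHomLift κ ((P s'.1).map q') := by
        have := map_lift (P s'.1) q'
        rwa [hq'] at this
      exact lift_unique_of_isEmpty hP hT κ _ _ (IsHomLift.comp_lift_id_right' 𝒳.p κ _ T _)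
        (IsHomLift.comp_lift_id_left' 𝒳.p T' _ κ _)
    · obtain rfl := heq s s' e fun hE => hT ⟨fun x => hE.false (κ.left x)⟩
      obtain rfl : q = q' := Over.OverMorphism.ext (hq.trans hq'.symm)
      rw [hθ1, hθ1, Category.id_comp, Category.comp_id]
  let R : Sieve W := Sieve.ofArrows C ε
  have hR : R ∈ AlgSp.J S W :=
    Groth.Agent.AlgSp.InfGlue.mem_J ε (fun i => have := hε i; inferInstance) hcov
  have hlift : ∀ a : (Stk.sieveCat R).obj, ∃ s : Σ i, Over.left a.obj ⟶ C i, s.2 ≫ ε s.1 = Over.hom a.obj :=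
    fun a => by
      obtain ⟨V, k, c, hc, e⟩ := a.property
      cases hc with
      | mk i => exact ⟨⟨i, k⟩, e⟩
  choose σ hσ using hlift
  have hk : ∀ {a b : (Stk.sieveCat R).obj} (k : a ⟶ b),
      (σ a).2 ≫ ε (σ a).1 = (k.hom.left ≫ (σ b).2) ≫ ε (σ b).1 := fun {a b} k => by
    rw [Category.assoc, hσ, hσ]; exact (Over.w k.hom).symm
  let F : ∀ {a b : (Stk.sieveCat R).obj} (k : a ⟶ b),
      (Over.mk (k.hom.left ≫ (σ b).2) : (overCat (C (σ b).1)).obj) ⟶ Over.mk (σ b).2 :=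
    fun k => Over.homMk k.hom.left rfl
  let G₀ : (Stk.sieveCat R).obj ⥤ 𝒳.obj :=
    { obj := fun a => ob (σ a)
      map := fun {a b} k => θ (σ a) ⟨(σ b).1, k.hom.left ≫ (σ b).2⟩ (hk k) ≫ (P (σ b).1).map (F k)
      map_id := fun a => by
        have key : ∀ {T : Over S} (i : ι) (u u' : T ⟶ C i) (e : u = u')
            (q : (Over.mk u' : (overCat (C i)).obj) ⟶ Over.mk u), q.left = 𝟙 T →
            θ ⟨i, u⟩ ⟨i, u'⟩ (by rw [e]) ≫ (P i).map q = 𝟙 _ := by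
          rintro T i u _ rfl q hq
          obtain rfl : q = 𝟙 _ := Over.OverMorphism.ext hq
          rw [CategoryTheory.Functor.map_id, hθ1, Category.id_comp]
        exact key _ _ _ (Category.id_comp (σ a).2).symm (F (𝟙 a)) rfl
      map_comp := fun {a b d} k l => by
        let F' : (Over.mk (k.hom.left ≫ l.hom.left ≫ (σ d).2) : (overCat (C (σ d).1)).obj) ⟶
            Over.mk (l.hom.left ≫ (σ d).2) := Over.homMk k.hom.left rfl
        have key : ∀ (x : Over.left a.obj ⟶ C (σ d).1) (ex : x = k.hom.left ≫ l.hom.left ≫ (σ d).2)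
            (q : (Over.mk x : (overCat (C (σ d).1)).obj) ⟶ Over.mk (σ d).2)
            (_ : q.left = k.hom.left ≫ l.hom.left),
            θ (σ a) ⟨(σ d).1, x⟩ (by
              rw [ex, hk k, Category.assoc, Category.assoc, hk l]) ≫
              (P (σ d).1).map q =
              θ (σ a) ⟨(σ b).1, k.hom.left ≫ (σ b).2⟩ (hk k) ≫ (P (σ b).1).map (F k) ≫
                θ (σ b) ⟨(σ d).1, l.hom.left ≫ (σ d).2⟩ (hk l) ≫ (P (σ d).1).map (F l) := by
          rintro x rfl q hq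
          rw [reassoc_of% (hθn k.hom.left (σ b) ⟨(σ d).1, l.hom.left ≫ (σ d).2⟩ (hk l) (F k) F' rfl rfl),
            reassoc_of% (hθm (σ a) ⟨(σ b).1, k.hom.left ≫ (σ b).2⟩
              ⟨(σ d).1, k.hom.left ≫ l.hom.left ≫ (σ d).2⟩), ← Functor.map_comp]
          congr 2
          exact Over.OverMorphism.ext hq
        rw [Category.assoc]
        exact key _ (Category.assoc _ _ _) (F (k ≫ l)) rfl }
  have hG₀ : ∀ {a b : (Stk.sieveCat R).obj} (k : a ⟶ b), 𝒳.p.IsHomLift k.hom.left (G₀.map k) := fun {a b} k => by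
    have := hθl (σ a) ⟨(σ b).1, k.hom.left ≫ (σ b).2⟩ (hk k)
    have : 𝒳.p.IsHomLift k.hom.left ((P (σ b).1).map (F k)) := map_lift (P (σ b).1) (F k)
    exact IsHomLift.comp_lift_id_left' 𝒳.p (Over.left a.obj) _ k.hom.left _
  let Φ : Stk.sieveCat R ⥤ᵇ 𝒳 :=
    ⟨G₀, CategoryTheory.Functor.ext (fun a => hob (σ a)) (fun a b k => by
      have := hG₀ k
      exact IsHomLift.fac' 𝒳.p k.hom.left (G₀.map k))⟩
  have : (Stk.resSieve R 𝒳).IsEquivalence := h.2 R hR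
  let z := (Stk.resSieve R 𝒳).objPreimage Φ
  let δ : (Stk.resSieve R 𝒳).obj z ≅ Φ := (Stk.resSieve R 𝒳).objObjPreimageIso Φ
  refine ⟨z, fun i => ?_⟩
  let a : (Stk.sieveCat R).obj :=
    ⟨Over.mk (𝟙 (C i) ≫ ε i), ⟨C i, 𝟙 _, ε i, ⟨i⟩, rfl⟩⟩
  let m : z.obj a.obj ⟶ ob (⟨i, 𝟙 (C i)⟩ : Σ j, C i ⟶ C j) :=
    δ.hom.toNatTrans.app a ≫ θ (σ a) ⟨i, 𝟙 (C i)⟩ (hσ a)
  have hmv : Vert m := (vert_app δ.hom a).comp (hθv _ _ _)
  have := hmv.isIso hg
  obtain ⟨α, -⟩ := exists_overIso hg (BasedFunctor.comp (AlgSt.overMap (ε i)) z) (P i) (asIso m) hmv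
  exact ⟨α⟩

end Groth.Agent.StFib.RatLift
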