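import Groth.Agent.StFib.RatLift.Chart

/-!
# Points with values in a field are determined by small data
-/

set_option autoImplicit false
set_option linter.unusedVariables false
set_option backward.isDefEq.respectTransparency false
set_option backward.isDefEq.respectTransparency.types false

universe u

open CategoryTheory CategoryTheory.Limits AlgebraicGeometry Opposite FibCat
open Groth.Agent.IsoCls Groth.Agent.StFib

namespace Groth.Agent.StFib.RatLift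

variable {S : Scheme.{u}} {𝒳 : AlgSt.Cat S} {k : Type u} [Field k] (σ : Spec (CommRingCat.of k) ⟶ S)
  {V : Over S} (v : overCat V ⥤ᵇ 𝒳)

theorem inv_comp_eq_of_factor {C : Type*} [Category C] {a b c d : C} {β : a ⟶ b} {wa : a ⟶ c}
    {wb : b ⟶ c} {wa' : a ⟶ d} {wb' : b ⟶ d} {ia : c ⟶ a} {ib : c ⟶ b} (h : β ≫ wb = wa)
    (h' : β ≫ wb' = wa') (hia : ia ≫ wa = 𝟙 c) (hib : wb ≫ ib = 𝟙 b) : ia ≫ wa' = ib ≫ wb' := by
  calc ia ≫ wa' = (ia ≫ β) ≫ (wb ≫ ib) ≫ wb' := by rw [hib, ← h', Category.assoc, Category.id_comp]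
    _ = (ia ≫ wa) ≫ ib ≫ wb' := by simp only [← h, Category.assoc]
    _ = ib ≫ wb' := by rw [hia, Category.id_comp]

/-- The small data of a point: a finite Galois subextension of the algebraic closure with a system. -/
abbrev Key : Type u :=
  Σ L : {L : IntermediateField k (AlgebraicClosure k) // FiniteDimensional k L ∧ IsGalois k L},
    Sys v (L.1 ≃ₐ[k] L.1) (extPt σ L.1)

/-- The data belong to a point. -/
def IsKeyOf (x : overCat (Over.mk σ) ⥤ᵇ 𝒳) (K : Key σ v) : Prop :=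
  ∃ w : ∀ g, VHom v x (K.2.u g) (extProj σ K.1.1),
    (∀ γ g, IsRes (galθ σ γ) (w (γ * g)) (w g)) ∧ ∀ g h, (K.2.β g h).1 ≫ (w h).1 = (w g).1

theorem exists_key (h𝒳 : IsFibGrpd 𝒳.p) (hv : AlgSt.RepByAlgSpWith (AlgSp.LocP @Smooth) v)
    (hvs : AlgSt.RepByAlgSpWith AlgSp.IsSurjectiveMor v) (x : overCat (Over.mk σ) ⥤ᵇ 𝒳) :
    ∃ K : Key σ v, IsKeyOf σ v x K := by
  obtain ⟨L, _, _, _, _, u, ⟨ω⟩⟩ := exists_galois_point σ h𝒳 x v hv hvs
  let α : L →ₐ[k] AlgebraicClosure k := IsAlgClosed.lift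
  let L' : IntermediateField k (AlgebraicClosure k) := α.fieldRange
  let e : L ≃ₐ[k] L' := AlgEquiv.ofInjectiveField α
  have : FiniteDimensional k L' := e.toLinearEquiv.finiteDimensional
  have : IsGalois k L' := IsGalois.of_algEquiv e
  let ι : extPt σ L' ⟶ extPt σ L := Over.homMk (Spec.map (CommRingCat.ofHom (e : L →+* L'))) (by
    change Spec.map _ ≫ Spec.map _ ≫ σ = Spec.map _ ≫ σ
    rw [← Spec.map_comp_assoc, ← CommRingCat.ofHom_comp]
    congr 3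
    exact RingHom.ext e.commutes)
  have hι : ι ≫ extProj σ L = extProj σ L' := Over.OverMorphism.ext (by
    change Spec.map _ ≫ Spec.map _ = Spec.map _
    rw [← Spec.map_comp, ← CommRingCat.ofHom_comp]
    congr 2
    exact RingHom.ext e.commutes)
  obtain ⟨ω', -⟩ := exists_isRes h𝒳 ι (rfl : ι ≫ u = _) hι ω
  obtain ⟨s, w, -, hw, hβ⟩ := exists_equivariant_sys σ L' h𝒳 (ι ≫ u) ω'
  exact ⟨⟨⟨L', ‹_›, ‹_›⟩, s⟩, w, hw, hβ⟩

/-- Two points with the same data are isomorphic. -/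
theorem nonempty_iso_of_key (h𝒳 : IsFibGrpd 𝒳.p) (hd : AlgSt.RepByAlgSp1 (diag (toSelf 𝒳)))
    {x x' : overCat (Over.mk σ) ⥤ᵇ 𝒳} (K : Key σ v) (hK : IsKeyOf σ v x K) (hK' : IsKeyOf σ v x' K) :
    Nonempty (x ≅ x') := by
  obtain ⟨⟨L, hfd, hgal⟩, s⟩ := K
  obtain ⟨w, hw, hβ⟩ := hK
  obtain ⟨w', hw', hβ'⟩ := hK'
  have := hfd
  have := hgal
  obtain ⟨X, -⟩ := exists_pairSp h𝒳 x x' (repByAlgSp1_of_diag h𝒳 hd (repByAlgSp_overCat _) x')
  let η : (L ≃ₐ[k] L) → VHom x x' (extProj σ L) (extProj σ L) := fun γ =>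
    ⟨((w γ).inv h𝒳).1 ≫ (w' γ).1, ((w γ).inv h𝒳).2.comp (w' γ).2⟩
  have hη : ∀ γ, η γ = η 1 := fun γ => Subtype.ext
    (inv_comp_eq_of_factor (hβ γ 1) (hβ' γ 1) (VHom.inv_comp h𝒳 (w γ)) (VHom.comp_inv h𝒳 (w 1)))
  let p : Pair x x' (extPt σ L) := ⟨extProj σ L, extProj σ L, η 1⟩
  have hinv : ∀ γ : L ≃ₐ[k] L, (AlgSp.yon S).map (galθ σ γ) ≫ (X.pts _).symm p = (X.pts _).symm p := by
    intro γ
    have h1 : (⟨extProj σ L, extProj σ L, η (γ * 1)⟩ : Pair x x' (extPt σ L)).Res (galθ σ γ) p :=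
      IsRes.comp (IsRes.inv h𝒳 (hw γ 1)) (hw' γ 1)
    rw [X.map_symm h𝒳 h1, hη]
  obtain ⟨r₀, hr₀⟩ := exists_descend_galois σ ((X.pts _).symm p) hinv
  have hres := X.res_of_map hr₀
  rw [Equiv.apply_symm_apply] at hres
  generalize X.pts (Over.mk σ) r₀ = P2 at hres
  obtain ⟨h₂, g₂, β₂⟩ := P2
  have := epi_extProj σ (L := L)
  obtain rfl : h₂ = 𝟙 (Over.mk σ) := (AlgSp.yon S).map_injective (by
    rw [← cancel_epi ((AlgSp.yon S).map (extProj σ L)), ← Functor.map_comp, ← Functor.map_comp]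
    exact congrArg _ (hres.h_eq.trans (Category.comp_id _).symm))
  obtain rfl : g₂ = 𝟙 (Over.mk σ) := (AlgSp.yon S).map_injective (by
    rw [← cancel_epi ((AlgSp.yon S).map (extProj σ L)), ← Functor.map_comp, ← Functor.map_comp]
    exact congrArg _ (hres.g_eq.trans (Category.comp_id _).symm))
  have := β₂.2.isIso h𝒳
  obtain ⟨α, -⟩ := exists_overIso h𝒳 x x' (asIso β₂.1) β₂.2
  exact ⟨α⟩

end Groth.Agent.StFib.RatLift
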