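import Groth.Agent.IsoCls.ChartPairs
import Groth.Agent.StFib.SourceLocal
import Groth.Agent.AlgSp.Basic

/-!
# Isomorphisms between values of two charts as points of a space
-/

set_option autoImplicit false
set_option linter.unusedVariables false
set_option backward.isDefEq.respectTransparency false
set_option backward.isDefEq.respectTransparency.types false

universe u

open CategoryTheory CategoryTheory.Limits AlgebraicGeometry Opposite FibCat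
open Groth.Agent.IsoCls Groth.Agent.StFib
open Groth.Agent.AlgSp (yEquiv yEquiv_map yEquiv_comp)

namespace Groth.Agent.StFib.RatLift

variable {S : Scheme.{u}} {𝒳 : AlgSt.Cat S} {U V W : Over S}
  {P : overCat V ⥤ᵇ 𝒳} {Q : overCat U ⥤ᵇ 𝒳} {R : overCat W ⥤ᵇ 𝒳}

/-- A pair of points of two charts with an isomorphism of their values. -/
structure Pair (P : overCat V ⥤ᵇ 𝒳) (Q : overCat U ⥤ᵇ 𝒳) (T : Over S) : Type u where
  h : T ⟶ V
  g : T ⟶ U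
  β : VHom P Q h g

/-- `p'` is the restriction of `p`. -/
def Pair.Res {T' T : Over S} (κ : T' ⟶ T) (p' : Pair P Q T') (p : Pair P Q T) : Prop :=
  IsRes κ p'.β p.β

theorem Pair.Res.h_eq {T' T : Over S} {κ : T' ⟶ T} {p' : Pair P Q T'} {p : Pair P Q T}
    (r : p'.Res κ p) : κ ≫ p.h = p'.h := IsRes.left_eq r

theorem Pair.Res.g_eq {T' T : Over S} {κ : T' ⟶ T} {p' : Pair P Q T'} {p : Pair P Q T}
    (r : p'.Res κ p) : κ ≫ p.g = p'.g := IsRes.right_eq r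

theorem Pair.Res.unique (h𝒳 : IsFibGrpd 𝒳.p) {T' T : Over S} {κ : T' ⟶ T} {p₁ p₂ : Pair P Q T'}
    {p : Pair P Q T} (r₁ : p₁.Res κ p) (r₂ : p₂.Res κ p) : p₁ = p₂ := by
  obtain ⟨h₁, g₁, β₁⟩ := p₁
  obtain ⟨h₂, g₂, β₂⟩ := p₂
  obtain rfl : h₂ = h₁ := r₂.h_eq.symm.trans r₁.h_eq
  obtain rfl : g₂ = g₁ := r₂.g_eq.symm.trans r₁.g_eq
  exact congrArg (Pair.mk h₂ g₂) (IsRes.unique h𝒳 r₁ r₂)

theorem Pair.Res.refl {T : Over S} (p : Pair P Q T) : p.Res (𝟙 T) p :=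
  ⟨𝟙 _, 𝟙 _, rfl, rfl, by
    rw [CategoryTheory.Functor.map_id, CategoryTheory.Functor.map_id, Category.comp_id, Category.id_comp]⟩

theorem Pair.Res.trans {T'' T' T : Over S} {κ' : T'' ⟶ T'} {κ : T' ⟶ T} {p'' : Pair P Q T''}
    {p' : Pair P Q T'} {p : Pair P Q T} (r' : p''.Res κ' p') (r : p'.Res κ p) :
    p''.Res (κ' ≫ κ) p := IsRes.trans r' r

theorem Pair.exists_res (h𝒳 : IsFibGrpd 𝒳.p) {T' T : Over S} (κ : T' ⟶ T) (p : Pair P Q T) :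
    ∃ p' : Pair P Q T', p'.Res κ p := by
  obtain ⟨β', hβ'⟩ := exists_isRes h𝒳 κ (rfl : κ ≫ p.h = _) (rfl : κ ≫ p.g = _) p.β
  exact ⟨⟨_, _, β'⟩, hβ'⟩

/-- A space whose points are the pairs. -/
structure PairSp (P : overCat V ⥤ᵇ 𝒳) (Q : overCat U ⥤ᵇ 𝒳) : Type (u + 2) where
  A : AlgSp.Space S
  fst : A.obj ⟶ (AlgSp.yon S).obj V
  pts : ∀ T : Over S, ((AlgSp.yon S).obj T ⟶ A.obj) ≃ Pair P Q T
  pts_fst : ∀ (T : Over S) (r : (AlgSp.yon S).obj T ⟶ A.obj), r ≫ fst = (AlgSp.yon S).map (pts T r).h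
  pts_res : ∀ ⦃T' T : Over S⦄ (κ : T' ⟶ T) (r : (AlgSp.yon S).obj T ⟶ A.obj),
    (pts T' ((AlgSp.yon S).map κ ≫ r)).Res κ (pts T r)

namespace PairSp

variable (X : PairSp P Q)

theorem symm_fst {T : Over S} (p : Pair P Q T) :
    (X.pts T).symm p ≫ X.fst = (AlgSp.yon S).map p.h := by
  rw [X.pts_fst, Equiv.apply_symm_apply]

theorem map_symm (h𝒳 : IsFibGrpd 𝒳.p) {T' T : Over S} {κ : T' ⟶ T} {p' : Pair P Q T'} {p : Pair P Q T}
    (r : p'.Res κ p) : (AlgSp.yon S).map κ ≫ (X.pts T).symm p = (X.pts T').symm p' := by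
  apply (X.pts T').injective
  have h := X.pts_res κ ((X.pts T).symm p)
  rw [Equiv.apply_symm_apply] at h
  rw [Equiv.apply_symm_apply]
  exact h.unique h𝒳 r

theorem res_of_map {T' T : Over S} {κ : T' ⟶ T} {r : (AlgSp.yon S).obj T ⟶ X.A.obj}
    {r' : (AlgSp.yon S).obj T' ⟶ X.A.obj} (e : (AlgSp.yon S).map κ ≫ r = r') :
    (X.pts T' r').Res κ (X.pts T r) := e ▸ X.pts_res κ r

end PairSp

/-- Pairs are points of the fibre product. -/
theorem exists_pairSp_of_chart (h𝒳 : IsFibGrpd 𝒳.p) (P : overCat V ⥤ᵇ 𝒳) (Q : overCat U ⥤ᵇ 𝒳)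
    (A : AlgSp.Space S) (e : AlgSt.ofSp A.obj ⥤ᵇ fp P Q) (he : IsEquivOver e) :
    ∃ X : PairSp P Q, (∀ R : MorphismProperty (AlgSp.Sp S), Good R → AlgSt.RepByAlgSpWith R Q → R X.fst) ∧
      ∀ R : MorphismProperty (AlgSp.Sp S), R X.fst → R (AlgSt.spMapOfOver (BasedFunctor.comp e (fpFst P Q))) := by
  obtain ⟨ev, hbij, hnat⟩ := exists_pairDict h𝒳 P Q A e he
  let a := AlgSt.spMapOfOver (BasedFunctor.comp e (fpFst P Q))
  have hh : ∀ (T : Over S) (r : (AlgSp.yon S).obj T ⟶ A.obj),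
      r ≫ a = (AlgSp.yon S).map ((AlgSp.yon S).preimage (r ≫ a)) := fun T r =>
    ((AlgSp.yon S).map_preimage _).symm
  let f : ∀ T, ((AlgSp.yon S).obj T ⟶ A.obj) → Pair P Q T := fun T r =>
    let h := (AlgSp.yon S).preimage (r ≫ a)
    let s := ev h ⟨r, hh T r⟩
    ⟨h, s.1, s.2⟩
  have hf : ∀ T, Function.Bijective (f T) := by
    intro T
    constructor
    · intro r r' e'
      have key : ∀ (h₁ h₂ : T ⟶ V) (s₁ : Sec a (Over.mk h₁)) (s₂ : Sec a (Over.mk h₂)),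
          (⟨h₁, (ev h₁ s₁).1, (ev h₁ s₁).2⟩ : Pair P Q T) = ⟨h₂, (ev h₂ s₂).1, (ev h₂ s₂).2⟩ →
            s₁.1 = s₂.1 := by
        intro h₁ h₂ s₁ s₂ e
        obtain rfl : h₁ = h₂ := congrArg Pair.h e
        injection e with _ eg eβ
        exact congrArg Subtype.val ((hbij h₁).1 (Sigma.ext eg eβ))
      exact key _ _ _ _ e'
    · rintro ⟨h, g, β⟩
      obtain ⟨⟨r, hr⟩, hs⟩ := (hbij h).2 ⟨g, β⟩
      refine ⟨r, ?_⟩
      have key : ∀ (h₁ : T ⟶ V) (s₁ : Sec a (Over.mk h₁)), h₁ = h → s₁.1 = r →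
          (⟨h₁, (ev h₁ s₁).1, (ev h₁ s₁).2⟩ : Pair P Q T) = ⟨h, g, β⟩ := by
        rintro h₁ ⟨r₁, hr₁⟩ rfl (rfl : r₁ = r)
        rw [hs]
      exact key _ _ ((AlgSp.yon S).map_injective ((hh T r).symm.trans hr)) rfl
  refine ⟨⟨A, a, fun T => Equiv.ofBijective (f T) (hf T), fun T r => hh T r, fun T' T κ r => ?_⟩,
    fun R hR hQR => mem_of_rep_chart hR.bc hR.det hQR P A e he, fun R hR => hR⟩
  exact hnat κ _ _ _ _ ((AlgSp.yon S).map_injective (by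
    rw [Functor.map_comp]
    exact ((congrArg ((AlgSp.yon S).map κ ≫ ·) (hh T r).symm).trans (Category.assoc _ _ _).symm).trans (hh T' _))) rfl

/-- Pairs are points of the fibre product of a representable morphism. -/
theorem exists_pairSp (h𝒳 : IsFibGrpd 𝒳.p) (P : overCat V ⥤ᵇ 𝒳) (Q : overCat U ⥤ᵇ 𝒳)
    (hQ : AlgSt.RepByAlgSp1 Q) :
    ∃ X : PairSp P Q, ∀ R : MorphismProperty (AlgSp.Sp S), Good R → AlgSt.RepByAlgSpWith R Q → R X.fst := by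
  obtain ⟨A, e, he⟩ := hQ V P
  obtain ⟨X, hX, -⟩ := exists_pairSp_of_chart h𝒳 P Q A e he
  exact ⟨X, hX⟩

end Groth.Agent.StFib.RatLift
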