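import Groth.Agent.StFib.RatLift.Param
import Groth.Agent.StFib.RatLift.Basic
import Groth.Agent.AlgSp.DescentGlue
import Groth.Agent.StFib.Fibre2

/-!
# Smoothness of a chart is local on the source
-/

set_option autoImplicit false
set_option linter.unusedVariables false
set_option backward.isDefEq.respectTransparency false
set_option backward.isDefEq.respectTransparency.types false

universe u

open CategoryTheory CategoryTheory.Limits AlgebraicGeometry Opposite FibCat
open Groth.Agent.IsoCls Groth.Agent.StFib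
open Groth.Agent.AlgSp (yEquiv yEquiv_map yEquiv_comp)

namespace Groth.Agent.StFib.RatLift

variable {S : Scheme.{u}} {𝒳 : AlgSt.Cat S}

/-- Compose the second point with a morphism. -/
def Pair.push {V W C : Over S} {t : overCat V ⥤ᵇ 𝒳} {p : overCat W ⥤ᵇ 𝒳} (ε : C ⟶ W) {T : Over S}
    (q : Pair t (BasedFunctor.comp (AlgSt.overMap ε) p) T) : Pair t p T :=
  ⟨q.h, q.g ≫ ε, q.β⟩

theorem Pair.push_injective {V W C : Over S} {t : overCat V ⥤ᵇ 𝒳} {p : overCat W ⥤ᵇ 𝒳} (ε : C ⟶ W) [Mono ε]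
    {T : Over S} : Function.Injective (Pair.push (t := t) (p := p) ε (T := T)) := by
  rintro ⟨h, g, β⟩ ⟨h', g', β'⟩ e
  obtain rfl : h = h' := congrArg Pair.h e
  obtain rfl : g = g' := (cancel_mono ε).1 (congrArg Pair.g e)
  simp only [Pair.push, Pair.mk.injEq, heq_eq_eq, true_and] at e
  exact congrArg (Pair.mk h g) e

theorem Pair.Res.push {V W C : Over S} {t : overCat V ⥤ᵇ 𝒳} {p : overCat W ⥤ᵇ 𝒳} (ε : C ⟶ W) {T' T : Over S}
    {κ : T' ⟶ T} {q' : Pair t (BasedFunctor.comp (AlgSt.overMap ε) p) T'}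
    {q : Pair t (BasedFunctor.comp (AlgSt.overMap ε) p) T} (r : q'.Res κ q) :
    (Pair.push ε q').Res κ (Pair.push ε q) := by
  obtain ⟨a, b, ha, hb, e⟩ := r
  exact ⟨a, (AlgSt.overMap ε).map b, ha, hb, e⟩

/-- A representable chart which is smooth on an open covering of its source is smooth. -/
theorem repByAlgSpWith_smooth_of_open_cover (h𝒳 : IsFibGrpd 𝒳.p) {W : Over S} {ι : Type u} {C : ι → Over S}
    (ε : ∀ i, C i ⟶ W) (hε : ∀ i, IsOpenImmersion (ε i).left) (hcov : ∀ x, ∃ i, x ∈ Set.range (ε i).left)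
    (p : overCat W ⥤ᵇ 𝒳) (hp : AlgSt.RepByAlgSp1 p)
    (h : ∀ i, AlgSt.RepByAlgSpWith (AlgSp.LocP @Smooth) (BasedFunctor.comp (AlgSt.overMap (ε i)) p)) :
    AlgSt.RepByAlgSpWith (AlgSp.LocP @Smooth) p := by
  intro T t
  obtain ⟨A, e, he⟩ := hp T t
  obtain ⟨X, -, hX⟩ := exists_pairSp_of_chart h𝒳 t p A e he
  refine ⟨A, e, he, hX _ ?_⟩
  obtain ⟨U, c, hce, hcs⟩ := X.A.property.atlas
  let P0 := X.pts U c
  have hc0 : c ≫ X.fst = (AlgSp.yon S).map P0.h := X.pts_fst U c
  refine smooth_of_cover (isAlgSpace_yon U) X.A.property (isAlgSpace_yon T) c X.fst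
    (Groth.Agent.AlgSpCov.locP_of_repWith Groth.Agent.AlgSpCov.standard_smooth.etaleLocal
      (Groth.Agent.AlgSp.repWith_mono (fun g hg => (have : Etale g := hg; inferInstance : Smooth g)) hce))
    (fun x => ?_) ?_
  · obtain ⟨w, hw⟩ := Groth.Agent.AlgSpB.surjective_ofPt hcs x
    exact ⟨AlgSp.Points.schemeHomeo U w, ((AlgSp.Points.map_ofPt (𝟙 _) c w).trans
      (congrArg (AlgSp.Points.ofPt · w) (Category.id_comp c))).trans hw⟩
  rw [hc0]
  refine Groth.Agent.AlgSpCov.locP_of_repWith Groth.Agent.AlgSpCov.standard_smooth.etaleLocal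
    ((AlgSp.repWith_yon_map_iff _ _).2 ?_)
  let O : ι → U.left.Opens := fun i => P0.g.left ⁻¹ᵁ (ε i).left.opensRange
  let Ui : ι → Over S := fun i => Over.mk ((O i).ι ≫ U.hom)
  let j : ∀ i, Ui i ⟶ U := fun i => Over.homMk (O i).ι rfl
  have hO : ∀ x, ∃ i, x ∈ O i := fun x => hcov (P0.g.left x)
  suffices hsm : ∀ i, Smooth (j i ≫ P0.h).left by
    exact IsZariskiLocalAtSource.of_openCover (P := @Smooth)
      (U.left.openCoverOfIsOpenCover O (TopologicalSpace.IsOpenCover.mk (eq_top_iff.2 fun x _ =>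
        TopologicalSpace.Opens.mem_iSup.2 (hO x)))) hsm
  intro i
  have := hε i
  have : Mono (ε i) := (Over.forget S).mono_of_mono_map (inferInstanceAs (Mono (ε i).left))
  have : Mono (j i) := (Over.forget S).mono_of_mono_map (inferInstanceAs (Mono (O i).ι))
  obtain ⟨Xi, hXi⟩ := exists_pairSp h𝒳 t (BasedFunctor.comp (AlgSt.overMap (ε i)) p) (repByAlgSp1_of_with (h i))
  let μ : ∀ Z : Over S, ((AlgSp.yon S).obj Z ⟶ Xi.A.obj) → ((AlgSp.yon S).obj Z ⟶ X.A.obj) := fun Z x =>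
    (X.pts Z).symm (Pair.push (ε i) (Xi.pts Z x))
  have hμ : ∀ {Z' Z : Over S} (κ : Z' ⟶ Z) (x : (AlgSp.yon S).obj Z ⟶ Xi.A.obj),
      μ Z' ((AlgSp.yon S).map κ ≫ x) = (AlgSp.yon S).map κ ≫ μ Z x := fun κ x =>
    (X.map_symm h𝒳 ((Xi.pts_res κ x).push (ε i))).symm
  have hμi : ∀ Z, Function.Injective (μ Z) := fun Z x y e =>
    (Xi.pts Z).injective (Pair.push_injective (ε i) ((X.pts Z).symm.injective e))
  let m : Xi.A.obj ⟶ X.A.obj := ⟨{
    app := fun Z => TypeCat.ofHom fun s => yEquiv (μ Z.unop (yEquiv.symm s))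
    naturality := fun Z Z' g => by
      ext s
      change yEquiv (μ Z'.unop (yEquiv.symm (Xi.A.obj.obj.map g s))) =
        X.A.obj.obj.map g.unop.op (yEquiv (μ Z.unop (yEquiv.symm s)))
      rw [← yEquiv_map, ← hμ]
      congr 2
      rw [Equiv.symm_apply_eq, yEquiv_map, Equiv.apply_symm_apply]
      rfl }⟩
  have hm : ∀ {Z : Over S} (x : (AlgSp.yon S).obj Z ⟶ Xi.A.obj), x ≫ m = μ Z x := fun {Z} x => by
    apply yEquiv.injective
    change yEquiv (μ Z (yEquiv.symm (yEquiv x))) = _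
    rw [Equiv.symm_apply_apply]
  let a : Ui i ⟶ C i := Over.homMk (IsOpenImmersion.lift (ε i).left ((O i).ι ≫ P0.g.left) (by
      rintro _ ⟨x, rfl⟩; exact x.2)) (by
    change _ ≫ (C i).hom = _
    rw [← Over.w (ε i), IsOpenImmersion.lift_fac_assoc, Category.assoc, Over.w P0.g]
    rfl)
  have ha : j i ≫ P0.g = a ≫ ε i := Over.OverMorphism.ext (IsOpenImmersion.lift_fac _ _ _).symm
  obtain ⟨βi, hβi⟩ := exists_isRes h𝒳 (j i) (rfl : j i ≫ P0.h = _) ha P0.β
  let r := (Xi.pts (Ui i)).symm ⟨j i ≫ P0.h, a, βi⟩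
  have hr : r ≫ m = (AlgSp.yon S).map (j i) ≫ c := by
    rw [hm]
    change (X.pts _).symm (Pair.push (ε i) (Xi.pts _ ((Xi.pts _).symm _))) = _
    rw [Equiv.apply_symm_apply, ← X.map_symm h𝒳 (p' := Pair.push (ε i) ⟨j i ≫ P0.h, a, βi⟩) (p := P0) hβi,
      Equiv.symm_apply_apply]
  have sq : IsPullback r ((AlgSp.yon S).map (j i)) m c := by
    let θ := pullback.lift r ((AlgSp.yon S).map (j i)) hr
    have : IsIso θ := by
      refine Groth.Agent.AlgSp.isIso_of_yon θ fun Z x => ?_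
      obtain ⟨u, hu⟩ := (AlgSp.yon S).map_surjective (x ≫ pullback.snd m c)
      have hx : μ Z (x ≫ pullback.fst m c) = (AlgSp.yon S).map u ≫ c := by
        rw [← hm, Category.assoc, pullback.condition, ← Category.assoc, hu]
      have hg : u ≫ P0.g = (Xi.pts Z (x ≫ pullback.fst m c)).g ≫ ε i := by
        refine (X.pts_res u c).g_eq.trans ?_
        rw [← hx]
        simp only [μ, Equiv.apply_symm_apply]
        rfl
      let y : Z ⟶ Ui i := Over.homMk (IsOpenImmersion.lift (O i).ι u.left (by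
          rintro _ ⟨z, rfl⟩
          refine ((O i).range_ι).symm ▸ ?_
          exact ⟨_, (congrArg (fun k : Z ⟶ W => k.left z) hg).symm⟩)) (by
        change _ ≫ (O i).ι ≫ U.hom = _
        rw [IsOpenImmersion.lift_fac_assoc, Over.w u])
      have hy : y ≫ j i = u := Over.OverMorphism.ext (IsOpenImmersion.lift_fac _ _ _)
      have h2 : (AlgSp.yon S).map y ≫ (AlgSp.yon S).map (j i) = x ≫ pullback.snd m c := by
        rw [← Functor.map_comp, hy, hu]
      refine ⟨y, pullback.hom_ext ?_ ?_, fun y' hy' => ?_⟩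
      · rw [Category.assoc, pullback.lift_fst]
        apply hμi
        rw [hμ, ← hm r, hr, reassoc_of% h2, hx, reassoc_of% hu]
      · rw [Category.assoc, pullback.lift_snd, h2]
      · rw [← cancel_mono (j i), hy]
        apply (AlgSp.yon S).map_injective
        rw [Functor.map_comp, hu, ← hy', Category.assoc, pullback.lift_snd]
    exact IsPullback.of_iso_pullback ⟨hr⟩ (asIso θ) (pullback.lift_fst _ _ _) (pullback.lift_snd _ _ _)
  have hre : AlgSp.RepWith @Etale r := MorphismProperty.of_isPullback sq.flip hce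
  have h3 := good_smooth.comp (isAlgSpace_yon (Ui i)) Xi.A.property (isAlgSpace_yon T) r Xi.fst
    (Groth.Agent.AlgSpCov.locP_of_repWith Groth.Agent.AlgSpCov.standard_smooth.etaleLocal
      (Groth.Agent.AlgSp.repWith_mono (fun g hg => (have : Etale g := hg; inferInstance : Smooth g)) hre))
    (hXi _ good_smooth (h i))
  rw [Xi.symm_fst] at h3
  exact scheme_mem_of_locP h3

end Groth.Agent.StFib.RatLift
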