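import Groth.Agent.StFib.RatLift.Main
import Groth.Agent.StFib.RatLift.SourceCover
import Groth.Agent.StFib.RatLift.Glue
import Groth.Agent.StFib.RatLift.Key
import Groth.Agent.StFib.SpaceLift
import Groth.Agent.AlgSpEN.Disjoint
import Groth.Agent.AlgSp.CoprodCover
import Groth.Agent.AlgSpCov.EtaleSections
import Groth.Agent.AzInvLib.SH

/-!
# One separated smooth chart lifting all points with values in quotients of a henselian local ring
-/

set_option autoImplicit false
set_option linter.unusedVariables false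
set_option backward.isDefEq.respectTransparency false
set_option backward.isDefEq.respectTransparency.types false

universe u

open CategoryTheory CategoryTheory.Limits AlgebraicGeometry Opposite FibCat
open Groth.Agent.IsoCls Groth.Agent.StFib

namespace Groth.Agent.StFib.RatLift

variable {S : Scheme.{u}} {𝒳 : AlgSt.Cat S}

/-- All points with values in a given field lift to one separated smooth chart. -/
theorem exists_chart_all_rational (h : Stk.IsStack (AlgSp.J S) 𝒳)
    (hd : AlgSt.RepByAlgSp1 (diag (toSelf 𝒳))) (hat : AlgSt.HasAtlas (AlgSp.LocP @Smooth) 𝒳)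
    {k : Type u} [Field k] (σ : Spec (CommRingCat.of k) ⟶ S) :
    ∃ (Z : Over S) (p : overCat Z ⥤ᵇ 𝒳), IsSeparated Z.hom ∧ AlgSt.RepByAlgSpWith (AlgSp.LocP @Smooth) p ∧
      ∀ x : overCat (Over.mk σ) ⥤ᵇ 𝒳, ∃ g : Over.mk σ ⟶ Z,
        Nonempty (BasedFunctor.comp (AlgSt.overMap g) p ≅ x) := by
  have h𝒳 : IsFibGrpd 𝒳.p := h.1
  obtain ⟨V, v, hv, hvs⟩ := hat
  let ι : Type u := {K : Key σ v // ∃ x, IsKeyOf σ v x K}
  let pt : ι → (overCat (Over.mk σ) ⥤ᵇ 𝒳) := fun i => i.2.choose
  choose C hC c g hc hg using fun i : ι =>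
    exists_rational_lift (isStack_etale_of_fppf h) hd ⟨V, v, hv, hvs⟩ σ (pt i)
  let Y : ι → Scheme.{u} := fun i => (C i).left
  have hY : ∀ i, IsAffine (Y i) := hC
  let W : Over S := Over.mk (Sigma.desc fun i => (C i).hom : (∐ Y) ⟶ S)
  let ε : ∀ i, C i ⟶ W := fun i => Over.homMk (Sigma.ι Y i) (Sigma.ι_desc _ i)
  have hdis : ∀ i j z, z ∈ Set.range (ε i).left → z ∈ Set.range (ε j).left → i = j := fun i j z hi hj =>
    of_not_not fun hij => Set.disjoint_left.1 (Groth.Agent.AlgSpCov.disjoint_range_sigmaι Y hij) hi hj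
  have hε : ∀ i, IsOpenImmersion (ε i).left := fun i => (sigmaOpenCover Y).map_prop i
  have hcov : ∀ z : W.left, ∃ i, z ∈ Set.range (ε i).left := fun z => ⟨_, (sigmaOpenCover Y).covers z⟩
  obtain ⟨p, hp⟩ := exists_disjoint_glue ε h hε hcov hdis c
  refine ⟨W, p, ?_, repByAlgSpWith_smooth_of_open_cover h𝒳 ε hε hcov p
    (repByAlgSp1_of_diag h𝒳 hd (repByAlgSp_overCat W) p) fun i =>
      repByAlgSpWith_of_iso _ (hp i).some.symm (hc i), fun x => ?_⟩
  · have := hε
    refine Groth.Agent.AlgSpEN.isSeparated_of_disjoint_cover W.hom (fun i => (ε i).left) hcov hdis fun i => ?_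
    rw [Over.w (ε i)]
    have := hC i
    have : IsSeparated ((C i).hom ≫ terminal.from S) := by
      rw [terminal.comp_from]
      exact Scheme.IsSeparated.isSeparated_terminal_from
    exact IsSeparated.of_comp (C i).hom (terminal.from S)
  · obtain ⟨K, hK⟩ := exists_key σ v h𝒳 hv hvs x
    let i : ι := ⟨K, x, hK⟩
    obtain ⟨j⟩ := nonempty_iso_of_key σ v h𝒳 hd K (i.2.choose_spec) hK
    exact ⟨g i ≫ ε i, ⟨isoWhiskerLeft (AlgSt.overMap (g i)) (hp i).some ≪≫ (hg i).some ≪≫ j⟩⟩

end Groth.Agent.StFib.RatLift
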