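import Groth.Agent.StFib.RatLift.Family
import Groth.Agent.StFib.RatLift.Param
import Groth.Agent.AlgSpEN.Field
import Groth.Agent.AlgSpCov.EtaleSections
import Groth.Agent.StFib.Fibre2

/-!
# An equivariant point of a smooth chart over a Galois extension
-/

set_option autoImplicit false
set_option linter.unusedVariables false
set_option backward.isDefEq.respectTransparency false
set_option backward.isDefEq.respectTransparency.types false

universe u

open CategoryTheory CategoryTheory.Limits AlgebraicGeometry Opposite FibCat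
open Groth.Agent.IsoCls Groth.Agent.StFib

namespace Groth.Agent.StFib.RatLift

variable {S : Scheme.{u}} {𝒳 : AlgSt.Cat S} {k : Type u} [Field k] (σ : Spec (CommRingCat.of k) ⟶ S)

theorem Pair.Res.of_trans (h𝒳 : IsFibGrpd 𝒳.p) {U V : Over S} {P : overCat V ⥤ᵇ 𝒳} {Q : overCat U ⥤ᵇ 𝒳}
    {T'' T' T : Over S} {κ' : T'' ⟶ T'} {κ : T' ⟶ T} {p'' : Pair P Q T''} {p' : Pair P Q T'} {p : Pair P Q T}
    (r : p''.Res (κ' ≫ κ) p) (r' : p'.Res κ p) : p''.Res κ' p' := by
  obtain ⟨q, hq⟩ := Pair.exists_res h𝒳 κ' p'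
  rwa [r.unique h𝒳 (hq.trans r')]

theorem Sys.exists_res (h𝒳 : IsFibGrpd 𝒳.p) {V : Over S} {v : overCat V ⥤ᵇ 𝒳} {G : Type u} {T' T : Over S}
    (κ : T' ⟶ T) (s : Sys v G T) : ∃ s' : Sys v G T', s'.Res κ s := by
  have hu : ∀ g h : G, ∃ β : VHom v v (κ ≫ s.u g) (κ ≫ s.u h), IsRes κ β (s.β g h) := fun g h =>
    exists_isRes h𝒳 κ rfl rfl _
  choose β hβ using hu
  refine ⟨⟨fun g => κ ≫ s.u g, β, fun g h l => ?_⟩, fun g h => hβ g h⟩
  have h1 := IsRes.comp (hβ g h) (hβ h l)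
  have h2 : (⟨(s.β g h).1 ≫ (s.β h l).1, (s.β g h).2.comp (s.β h l).2⟩ :
      VHom v v (s.u g) (s.u l)) = s.β g l := Subtype.ext (s.mul g h l)
  rw [h2] at h1
  exact congrArg Subtype.val (h1.unique h𝒳 (hβ g l))

/-- A point of a stack with values in a field lifts to a chart over a finite Galois extension. -/
theorem exists_galois_point (h𝒳 : IsFibGrpd 𝒳.p) (x : overCat (Over.mk σ) ⥤ᵇ 𝒳) {V : Over S}
    (v : overCat V ⥤ᵇ 𝒳) (hv : AlgSt.RepByAlgSpWith (AlgSp.LocP @Smooth) v)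
    (hvs : AlgSt.RepByAlgSpWith AlgSp.IsSurjectiveMor v) :
    ∃ (L : Type u) (_ : Field L) (_ : Algebra k L) (_ : FiniteDimensional k L) (_ : IsGalois k L)
      (u : extPt σ L ⟶ V), Nonempty (VHom v x u (extProj σ L)) := by
  obtain ⟨X, hX⟩ := exists_pairSp h𝒳 x v (repByAlgSp1_of_with hv)
  have hsm := hX _ good_smooth hv
  have hsu := hX _ good_surjective hvs
  obtain ⟨W, a, hae, has⟩ := X.A.property.atlas
  obtain ⟨h, hh⟩ := (AlgSp.yon S).map_surjective (a ≫ X.fst)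
  have hsmh : Smooth h.left := by
    have h2 := good_smooth.comp (isAlgSpace_yon _) X.A.property (isAlgSpace_yon _) _ _
      (Groth.Agent.AlgSpCov.locP_of_repWith Groth.Agent.AlgSpCov.standard_smooth.etaleLocal
        (Groth.Agent.AlgSp.repWith_mono (fun g hg => (have : Etale g := hg; inferInstance : Smooth g)) hae)) hsm
    rw [← hh] at h2
    exact scheme_mem_of_locP h2
  obtain ⟨w⟩ : Nonempty W.left := by
    obtain ⟨p, -⟩ := hsu (AlgSp.Points.schemeHomeo (Over.mk σ) (default : Spec (CommRingCat.of k)))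
    obtain ⟨w, -⟩ := Groth.Agent.AlgSpB.surjective_ofPt has p
    exact ⟨w⟩
  obtain ⟨S', g, s', hge, -, h', hh'⟩ := Groth.Agent.AlgSpCov.exists_etale_section h.left w
  let K : Type u := S'.residueField s'
  let q : Spec (CommRingCat.of K) ⟶ S' := S'.fromSpecResidueField s'
  let g' : S' ⟶ Spec (CommRingCat.of k) := g
  have : Etale g' := hge
  let i : CommRingCat.of k ⟶ CommRingCat.of K := Spec.preimage (q ≫ g')
  let _ : Algebra k K := i.hom.toAlgebra
  have hi : Spec.map (CommRingCat.ofHom (algebraMap k K)) = q ≫ g' := Spec.map_preimage _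
  obtain ⟨hft, hfu⟩ := Groth.Agent.AlgSp.finite_separable_of_etale g' s' (Iso.refl _) i hi
  have : Algebra.FiniteType k K := hft
  have : Algebra.FormallyUnramified k K := hfu
  have : FiniteDimensional k K := finite_of_finite_type_of_isJacobsonRing k K
  have : Algebra.IsSeparable k K := Algebra.FormallyUnramified.isSeparable k K
  let L : Type u := IntermediateField.normalClosure k K (AlgebraicClosure K)
  have : Algebra.IsSeparable k L := by
    rw [← le_separableClosure_iff]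
    refine normalClosure_le_iff.2 fun e => ?_
    rw [le_separableClosure_iff]
    exact AlgEquiv.Algebra.isSeparable (AlgEquiv.ofInjectiveField e)
  have : IsGalois k L := ⟨⟩
  have : FiniteDimensional k L := inferInstance
  obtain ⟨α⟩ : Nonempty (K →ₐ[k] L) := ⟨(IsScalarTower.toAlgHom k K (AlgebraicClosure K)).codRestrict
    (IntermediateField.normalClosure k K (AlgebraicClosure K)).toSubalgebra fun y =>
      AlgHom.fieldRange_le_normalClosure (IsScalarTower.toAlgHom k K (AlgebraicClosure K)) ⟨y, rfl⟩⟩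
  have hαg : (Spec.map (CommRingCat.ofHom α.toRingHom) ≫ q ≫ h') ≫ h.left =
      Spec.map (CommRingCat.ofHom (algebraMap k L)) := by
    rw [Category.assoc, Category.assoc, hh']
    change _ ≫ q ≫ g' = _
    rw [← hi, ← Spec.map_comp, ← CommRingCat.ofHom_comp]
    congr 2
    exact α.comp_algebraMap
  let aL : extPt σ L ⟶ W := Over.homMk (Spec.map (CommRingCat.ofHom α.toRingHom) ≫ q ≫ h') (by
    rw [← Over.w h, ← Category.assoc, hαg]
    rfl)
  have haL : aL ≫ h = extProj σ L := Over.OverMorphism.ext hαg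
  let p := X.pts _ ((AlgSp.yon S).map aL ≫ a)
  have hp : p.h = extProj σ L := (AlgSp.yon S).map_injective (by
    rw [← X.pts_fst, Category.assoc, ← hh, ← Functor.map_comp, haL])
  obtain ⟨β, -⟩ : ∃ β : VHom x v (extProj σ L) p.g, HEq β p.β := hp ▸ ⟨p.β, HEq.rfl⟩
  exact ⟨L, inferInstance, inferInstance, ‹FiniteDimensional k L›, ‹IsGalois k L›, p.g, ⟨β.inv h𝒳⟩⟩

variable (L : Type u) [Field L] [Algebra k L] [FiniteDimensional k L] [IsGalois k L]

omit [FiniteDimensional k L] [IsGalois k L] in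
/-- The translates of a lift form an equivariant system. -/
theorem exists_equivariant_sys (h𝒳 : IsFibGrpd 𝒳.p) {x : overCat (Over.mk σ) ⥤ᵇ 𝒳} {V : Over S}
    {v : overCat V ⥤ᵇ 𝒳} (u : extPt σ L ⟶ V) (ω : VHom v x u (extProj σ L)) :
    ∃ (s : Sys v (L ≃ₐ[k] L) (extPt σ L)) (w : ∀ g, VHom v x (s.u g) (extProj σ L)),
      (∀ γ, (s.shift γ).Res (galθ σ γ) s) ∧
      (∀ γ g, IsRes (galθ σ γ) (w (γ * g)) (w g)) ∧
      ∀ g h, (s.β g h).1 ≫ (w h).1 = (w g).1 := by
  have hw : ∀ g : L ≃ₐ[k] L, ∃ w : VHom v x (galθ σ g ≫ u) (extProj σ L), IsRes (galθ σ g) w ω := fun g =>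
    exists_isRes h𝒳 _ rfl (galθ_proj σ g) ω
  choose w hw using hw
  have hww : ∀ γ g, IsRes (galθ σ γ) (w (γ * g)) (w g) := fun γ g => by
    obtain ⟨w', hw'⟩ := exists_isRes h𝒳 (galθ σ γ) (h' := galθ σ (γ * g) ≫ u) (g' := extProj σ L)
      (by rw [galθ_mul, Category.assoc]) (galθ_proj σ γ) (w g)
    have h2 := hw'.trans (hw g)
    rw [← galθ_mul] at h2
    rwa [(hw (γ * g)).unique h𝒳 h2]
  let s : Sys v (L ≃ₐ[k] L) (extPt σ L) :=
    { u := fun g => galθ σ g ≫ u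
      β := fun g h => ⟨(w g).1 ≫ ((w h).inv h𝒳).1, (w g).2.comp ((w h).inv h𝒳).2⟩
      mul := fun g h l => by
        change ((w g).1 ≫ ((w h).inv h𝒳).1) ≫ (w h).1 ≫ ((w l).inv h𝒳).1 = _
        rw [Category.assoc, ← Category.assoc ((w h).inv h𝒳).1, VHom.inv_comp, Category.id_comp] }
  refine ⟨s, w, fun γ g h => IsRes.comp (hww γ g) (IsRes.inv h𝒳 (hww γ h)), hww, fun g h => ?_⟩
  change ((w g).1 ≫ ((w h).inv h𝒳).1) ≫ (w h).1 = _
  rw [Category.assoc, VHom.inv_comp, Category.comp_id]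

/-- A smooth chart with a free action and an equivariant point over a given equivariant system. -/
theorem exists_free_chart (h𝒳 : IsFibGrpd 𝒳.p) {V : Over S} {v : overCat V ⥤ᵇ 𝒳}
    (hv : AlgSt.RepByAlgSpWith (AlgSp.LocP @Smooth) v) (sA : Sys v (L ≃ₐ[k] L) (extPt σ L))
    (hA : ∀ γ, (sA.shift γ).Res (galθ σ γ) sA) :
    ∃ (Y : Over S) (s : Sys v (L ≃ₐ[k] L) Y) (act : (L ≃ₐ[k] L) → (Y ⟶ Y)) (a : extPt σ L ⟶ Y),
      Smooth (s.u 1).left ∧ act 1 = 𝟙 Y ∧ (∀ γ γ', act (γ * γ') = act γ ≫ act γ') ∧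
      (∀ γ, (s.shift γ).Res (act γ) s) ∧ sA.Res a s ∧ (∀ γ, galθ σ γ ≫ a = a ≫ act γ) ∧
      ∀ (T : Over S) [Nonempty T.left] (b : T ⟶ Y) (γ : L ≃ₐ[k] L), b ≫ act γ = b → γ = 1 := by
  obtain ⟨X, hX⟩ := exists_pairSp h𝒳 v v (repByAlgSp1_of_with hv)
  choose C m cA _ hm hcA using fun δ : L ≃ₐ[k] L =>
    Groth.Agent.AlgSpEN.exists_affine_chart_field X.A.property
      (Spec.map (CommRingCat.ofHom (algebraMap k L)) ≫ σ) ((X.pts (extPt σ L)).symm (sA.pair 1 δ))
  let ψ : Fam X C m (extPt σ L) := ⟨sA, fun g δ => galθ σ g ≫ cA δ, fun g δ => by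
    rw [Functor.map_comp, Category.assoc, hcA, X.map_symm h𝒳 (hA g 1 δ)]
    change (X.pts _).symm (sA.pair (g * 1) (g * δ)) = _
    rw [mul_one]⟩
  obtain ⟨Y, φ, hsm, hlift, huniq⟩ := exists_familyScheme X C m h𝒳 hm (hX _ good_smooth hv)
  have hshift : ∀ γ : L ≃ₐ[k] L, ∃ a : Y ⟶ Y, (φ.sys.shift γ).Res a φ.sys ∧
      ∀ g δ, a ≫ φ.c g δ = φ.c (γ * g) δ := fun γ =>
    hlift Y ⟨φ.sys.shift γ, fun g δ => φ.c (γ * g) δ, fun g δ => by
      rw [φ.eq]
      change _ = (X.pts Y).symm (φ.sys.pair (γ * g) (γ * (g * δ)))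
      rw [mul_assoc]⟩
  choose Φ hΦs hΦc using hshift
  have hΦu : ∀ γ g, Φ γ ≫ φ.sys.u g = φ.sys.u (γ * g) := fun γ g => (hΦs γ g g).h_eq
  obtain ⟨aY, haYs, haYc⟩ := hlift _ ψ
  have haYu : ∀ g, aY ≫ φ.sys.u g = sA.u g := fun g => (haYs g g).h_eq
  have haYe : ∀ γ, galθ σ γ ≫ aY = aY ≫ Φ γ := fun γ => huniq _ _ _ (by
      rw [Category.assoc, Category.assoc, hΦu, haYu, haYu]
      exact (hA γ 1 1).h_eq) fun g δ => by
    rw [Category.assoc, Category.assoc, hΦc, haYc, haYc]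
    change galθ σ γ ≫ galθ σ g ≫ cA δ = galθ σ (γ * g) ≫ cA δ
    rw [galθ_mul, Category.assoc]
  obtain ⟨P, act₀, τ, hP, hact1, hactm, hτ, hfree⟩ := exists_free_param σ L
  let T₀ : Over S := Over.mk (𝟙 S)
  have hT : ∀ {T : Over S} (a b : T ⟶ T₀), a = b := fun a b =>
    Over.OverMorphism.ext (((Category.comp_id _).symm.trans (Over.w a)).trans
      ((Over.w b).symm.trans (Category.comp_id _)))
  let tY : Y ⟶ T₀ := Over.homMk Y.hom (Category.comp_id _)
  let tP : P ⟶ T₀ := Over.homMk P.hom (Category.comp_id _)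
  let Y₁ : Over S := pullback tY tP
  let p₁ : Y₁ ⟶ Y := pullback.fst tY tP
  let p₂ : Y₁ ⟶ P := pullback.snd tY tP
  obtain ⟨s, hs⟩ := Sys.exists_res h𝒳 p₁ φ.sys
  let act : (L ≃ₐ[k] L) → (Y₁ ⟶ Y₁) := fun γ => pullback.lift (p₁ ≫ Φ γ) (p₂ ≫ act₀ γ) (hT _ _)
  have hact1' : ∀ γ, act γ ≫ p₁ = p₁ ≫ Φ γ := fun γ => pullback.lift_fst _ _ _
  have hact2' : ∀ γ, act γ ≫ p₂ = p₂ ≫ act₀ γ := fun γ => pullback.lift_snd _ _ _
  have hΦm : ∀ γ γ', Φ (γ * γ') = Φ γ ≫ Φ γ' := fun γ γ' => huniq _ _ _ (by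
      rw [Category.assoc, hΦu, hΦu, hΦu, mul_assoc]) fun g δ => by
    rw [Category.assoc, hΦc, hΦc, hΦc, mul_assoc]
  have hΦ1 : Φ 1 = 𝟙 Y := huniq _ _ _ (by rw [hΦu, one_mul, Category.id_comp]) fun g δ => by
    rw [hΦc, one_mul, Category.id_comp]
  refine ⟨Y₁, s, act, pullback.lift aY τ (hT _ _), ?_, ?_, fun γ γ' => ?_, fun γ => ?_, ?_, fun γ => ?_,
    fun T _ b γ hb => hfree T (b ≫ p₂) γ ?_⟩
  · have e : s.u 1 = p₁ ≫ φ.sys.u 1 := (hs 1 1).h_eq.symm
    rw [e, Over.comp_left]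
    have : Smooth p₁.left := MorphismProperty.of_isPullback
      ((IsPullback.of_hasPullback tY tP).map (Over.forget S)).flip (inferInstanceAs (Smooth P.hom) : Smooth tP.left)
    have : Smooth (φ.sys.u 1).left := hsm
    infer_instance
  · apply pullback.hom_ext
    · rw [hact1', hΦ1, Category.comp_id, Category.id_comp]
    · rw [hact2', hact1, Category.comp_id, Category.id_comp]
  · apply pullback.hom_ext
    · rw [Category.assoc, hact1' γ', reassoc_of% (hact1' γ), hact1', hΦm]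
    · rw [Category.assoc, hact2' γ', reassoc_of% (hact2' γ), hact2', hactm]
  · intro g h
    refine Pair.Res.of_trans h𝒳 (κ := p₁) ?_ (hs g h)
    rw [hact1']
    exact (hs (γ * g) (γ * h)).trans (hΦs γ g h)
  · intro g h
    refine Pair.Res.of_trans h𝒳 (κ := p₁) ?_ (hs g h)
    rw [pullback.lift_fst]
    exact haYs g h
  · apply pullback.hom_ext
    · rw [Category.assoc, Category.assoc, hact1', pullback.lift_fst, pullback.lift_fst_assoc, haYe]
    · rw [Category.assoc, Category.assoc, hact2', pullback.lift_snd, pullback.lift_snd_assoc, hτ]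
  · rw [Category.assoc, ← hact2', ← Category.assoc, hb]

end Groth.Agent.StFib.RatLift
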