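import Groth.Agent.StFib.RatLift.Basic
import Groth.Agent.StkLib.Glue
import Groth.Agent.GalCohAux.GerbBasic

/-!
# Descent of an object along a covering morphism
-/

set_option autoImplicit false
set_option linter.unusedVariables false
set_option backward.isDefEq.respectTransparency false
set_option backward.isDefEq.respectTransparency.types false

universe u

open CategoryTheory CategoryTheory.Limits AlgebraicGeometry Opposite FibCat
open CategoryTheory.Functor Groth.Agent.FibC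
open Groth.Agent.IsoCls Groth.Agent.StFib

namespace Groth.Agent.StFib.RatLift

variable {S : Scheme.{u}} {𝒳 : AlgSt.Cat S} {J : GrothendieckTopology (Over S)} {W Z : Over S}

theorem isHomLift_vhom_comp {V U : Over S} {P : overCat V ⥤ᵇ 𝒳} {Q : overCat U ⥤ᵇ 𝒳} {T : Over S}
    {h : T ⟶ V} {g : T ⟶ U} (β : VHom P Q h g) {b : (overCat U).obj} (k : (Over.mk g : (overCat U).obj) ⟶ b) :
    𝒳.p.IsHomLift k.left (β.1 ≫ Q.map k) := by
  have : 𝒳.p.IsHomLift (𝟙 T) β.1 := β.2.isHomLift (P.w_obj (Over.mk h))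
  have : 𝒳.p.IsHomLift k.left (Q.map k) := map_lift Q k
  exact IsHomLift.comp_lift_id_left' 𝒳.p T _ _ _

/-- An object with descent data along a covering morphism descends. -/
theorem exists_descent_obj (h : Stk.IsStack J 𝒳) (c : W ⟶ Z)
    (hc : Sieve.generate (Presieve.singleton c) ∈ J Z) (y : overCat W ⥤ᵇ 𝒳)
    (φ : ∀ {T : Over S} (a b : T ⟶ W), a ≫ c = b ≫ c → VHom y y a b)
    (hnat : ∀ {T' T : Over S} (κ : T' ⟶ T) (a b : T ⟶ W) (e : a ≫ c = b ≫ c),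
      IsRes κ (φ (κ ≫ a) (κ ≫ b) (by rw [Category.assoc, e, Category.assoc])) (φ a b e))
    (hmul : ∀ {T : Over S} (a b d : T ⟶ W) (e : a ≫ c = b ≫ c) (e' : b ≫ c = d ≫ c),
      (φ a b e).1 ≫ (φ b d e').1 = (φ a d (e.trans e')).1) :
    ∃ (z : overCat Z ⥤ᵇ 𝒳) (ζ : ∀ {T : Over S} (a : T ⟶ W) (d : T ⟶ Z), a ≫ c = d → VHom y z a d),
      (∀ {T' T : Over S} (κ : T' ⟶ T) (a : T ⟶ W) (d : T ⟶ Z) (e : a ≫ c = d),
        IsRes κ (ζ (κ ≫ a) (κ ≫ d) (by rw [Category.assoc, e])) (ζ a d e)) ∧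
      (∀ {T : Over S} (a b : T ⟶ W) (d : T ⟶ Z) (ea : a ≫ c = d) (eb : b ≫ c = d),
        (φ a b (ea.trans eb.symm)).1 ≫ (ζ b d eb).1 = (ζ a d ea).1) ∧
      Nonempty (BasedFunctor.comp (AlgSt.overMap c) z ≅ y) := by
  classical
  have hg : IsFibGrpd 𝒳.p := h.1
  let R : Sieve Z := Sieve.generate (Presieve.singleton c)
  have hlift : ∀ a : (Stk.sieveCat R).obj, ∃ σ : Over.left a.obj ⟶ W, σ ≫ c = Over.hom a.obj := fun a => by
    obtain ⟨V', k, c', hc', e⟩ := a.property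
    cases hc'
    exact ⟨k, e⟩
  choose σ hσ using hlift
  have hk : ∀ {a b : (Stk.sieveCat R).obj} (k : a ⟶ b),
      σ a ≫ c = (k.hom.left ≫ σ b) ≫ c := fun {a b} k => by
    rw [Category.assoc, hσ, hσ]; exact (Over.w k.hom).symm
  let F : ∀ {a b : (Stk.sieveCat R).obj} (k : a ⟶ b),
      (Over.mk (k.hom.left ≫ σ b) : (overCat W).obj) ⟶ Over.mk (σ b) := fun k => Over.homMk k.hom.left rfl
  have hid : ∀ {T : Over S} (a a' : T ⟶ W) (e : a = a') (q : (Over.mk a' : (overCat W).obj) ⟶ Over.mk a),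
      q.left = 𝟙 T → (φ a a' (by rw [e])).1 ≫ y.map q = 𝟙 _ := by
    rintro T a _ rfl q hq
    obtain rfl : q = 𝟙 _ := Over.OverMorphism.ext hq
    rw [CategoryTheory.Functor.map_id, Category.comp_id]
    have := (φ a a rfl).2.isIso hg
    rw [← cancel_epi (φ a a rfl).1]
    exact (hmul a a a rfl rfl).trans (Category.comp_id _).symm
  have hF : ∀ {a b : (Stk.sieveCat R).obj} (k : a ⟶ b) (x : Over.left b.obj ⟶ W) (e : σ b ≫ c = x ≫ c)
      (F' : (Over.mk (k.hom.left ≫ x) : (overCat W).obj) ⟶ Over.mk x), F'.left = k.hom.left →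
      y.map (F k) ≫ (φ (σ b) x e).1 =
        (φ (k.hom.left ≫ σ b) (k.hom.left ≫ x) (by rw [Category.assoc, e, Category.assoc])).1 ≫ y.map F' := by
    intro a b k x e F' hF'
    obtain ⟨p, q, hp, hq, e'⟩ := hnat k.hom.left (σ b) x e
    obtain rfl : p = F k := Over.OverMorphism.ext hp
    obtain rfl : q = F' := Over.OverMorphism.ext (hq.trans hF'.symm)
    exact e'.symm
  let G₀ : (Stk.sieveCat R).obj ⥤ 𝒳.obj :=
    { obj := fun a => y.obj (Over.mk (σ a))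
      map := fun {a b} k => (φ (σ a) (k.hom.left ≫ σ b) (hk k)).1 ≫ y.map (F k)
      map_id := fun a => hid _ _ (Category.id_comp (σ a)).symm _ rfl
      map_comp := fun {a b d} k l => by
        let F' : (Over.mk (k.hom.left ≫ l.hom.left ≫ σ d) : (overCat W).obj) ⟶ Over.mk (l.hom.left ≫ σ d) :=
          Over.homMk k.hom.left rfl
        have key : ∀ (x : Over.left a.obj ⟶ W) (ex : x = k.hom.left ≫ l.hom.left ≫ σ d)
            (q : (Over.mk x : (overCat W).obj) ⟶ Over.mk (σ d)) (_ : q.left = k.hom.left ≫ l.hom.left),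
            (φ (σ a) x (by rw [ex, hk k, Category.assoc, Category.assoc, hk l, Category.assoc])).1 ≫ y.map q =
              (φ (σ a) (k.hom.left ≫ σ b) (hk k)).1 ≫ y.map (F k) ≫
                (φ (σ b) (l.hom.left ≫ σ d) (hk l)).1 ≫ y.map (F l) := by
          rintro x rfl q hq
          have h1 := hF k _ (hk l) F' rfl
          rw [reassoc_of% h1, ← Category.assoc (φ (σ a) _ _).1, hmul, ← Functor.map_comp]
          congr 2
          exact Over.OverMorphism.ext hq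
        rw [Category.assoc]
        exact key _ (Category.assoc _ _ _) (F (k ≫ l)) rfl }
  have hG₀ : ∀ {a b : (Stk.sieveCat R).obj} (k : a ⟶ b), 𝒳.p.IsHomLift k.hom.left (G₀.map k) :=
    fun {a b} k => isHomLift_vhom_comp _ (F k)
  let Φ : Stk.sieveCat R ⥤ᵇ 𝒳 :=
    ⟨G₀, CategoryTheory.Functor.ext (fun a => y.w_obj (Over.mk (σ a))) (fun a b k => by
      have := hG₀ k
      exact IsHomLift.fac' 𝒳.p k.hom.left (G₀.map k))⟩
  have : (Stk.resSieve R 𝒳).IsEquivalence := h.2 R hc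
  let z := (Stk.resSieve R 𝒳).objPreimage Φ
  let ε : (Stk.resSieve R 𝒳).obj z ≅ Φ := (Stk.resSieve R 𝒳).objObjPreimageIso Φ
  have hmem : ∀ {T : Over S} (a : T ⟶ W) (d : T ⟶ Z), a ≫ c = d → R d := fun a d e =>
    ⟨W, a, c, Presieve.singleton_self c, e⟩
  let o : ∀ {T : Over S} (a : T ⟶ W) (d : T ⟶ Z), a ≫ c = d → (Stk.sieveCat R).obj :=
    fun a d e => ⟨Over.mk d, hmem a d e⟩
  have ho : ∀ {T : Over S} (a : T ⟶ W) (d : T ⟶ Z) (e : a ≫ c = d), a ≫ c = σ (o a d e) ≫ c :=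
    fun a d e => e.trans (hσ (o a d e)).symm
  have hvε : ∀ a, Vert (ε.inv.toNatTrans.app a) := fun a => vert_app ε.inv a
  let ζ : ∀ {T : Over S} (a : T ⟶ W) (d : T ⟶ Z), a ≫ c = d → VHom y z a d := fun a d e =>
    ⟨(φ a (σ (o a d e)) (ho a d e)).1 ≫ ε.inv.toNatTrans.app (o a d e), (φ a _ (ho a d e)).2.comp (hvε _)⟩
  refine ⟨z, ζ, fun {T' T} κ a d e => ?_, fun {T} a b d ea eb => ?_, ?_⟩
  · let a' := o (κ ≫ a) (κ ≫ d) (by rw [Category.assoc, e])
    let b' := o a d e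
    let k : a' ⟶ b' := ObjectProperty.homMk (Over.homMk κ rfl)
    have hn : G₀.map k ≫ ε.inv.toNatTrans.app b' = ε.inv.toNatTrans.app a' ≫ z.map k.hom :=
      ε.inv.toNatTrans.naturality k
    obtain ⟨p, q, hp, hq, e'⟩ := hnat κ a (σ b') (ho a d e)
    refine ⟨p, k.hom, hp, rfl, ?_⟩
    change ((φ (κ ≫ a) (σ a') _).1 ≫ ε.inv.toNatTrans.app a') ≫ z.map k.hom =
      y.map p ≫ (φ a (σ b') _).1 ≫ ε.inv.toNatTrans.app b'
    rw [← Category.assoc (y.map p), ← e', Category.assoc, ← hn]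
    have hq' : q = F k := Over.OverMorphism.ext hq
    change (φ (κ ≫ a) (σ a') _).1 ≫ ((φ (σ a') (κ ≫ σ b') _).1 ≫ y.map (F k)) ≫ ε.inv.toNatTrans.app b' = _
    rw [hq', ← hmul (κ ≫ a) (σ a') (κ ≫ σ b') (ho (κ ≫ a) (κ ≫ d) (by rw [Category.assoc, e])) (hk k)]
    simp only [Category.assoc]
  · change (φ a b _).1 ≫ (φ b (σ (o b d eb)) _).1 ≫ ε.inv.toNatTrans.app (o b d eb) = _
    rw [← Category.assoc, hmul]
  · let top : (overCat W).obj := Over.mk (𝟙 W)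
    obtain ⟨α, -⟩ := exists_overIso hg (BasedFunctor.comp (AlgSt.overMap c) z) y
      (have := (ζ (𝟙 W) (𝟙 W ≫ c) rfl).2.isIso hg; (asIso (ζ (𝟙 W) (𝟙 W ≫ c) rfl).1).symm)
      (Vert.inv (φ := @asIso _ _ _ _ (ζ (𝟙 W) (𝟙 W ≫ c) rfl).1 ((ζ (𝟙 W) (𝟙 W ≫ c) rfl).2.isIso hg))
        (ζ (𝟙 W) (𝟙 W ≫ c) rfl).2)
    exact ⟨α⟩

end Groth.Agent.StFib.RatLift
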