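import Groth.Agent.StFib.RatLift.Basic
import Groth.Agent.StFib.Props2
import Groth.Agent.StFib.DiagConv

/-!
# The scheme of coherent families of isomorphisms of chart values
-/

set_option autoImplicit false
set_option linter.unusedVariables false
set_option backward.isDefEq.respectTransparency false
set_option backward.isDefEq.respectTransparency.types false

universe u

open CategoryTheory CategoryTheory.Limits AlgebraicGeometry Opposite FibCat
open Groth.Agent.IsoCls Groth.Agent.StFib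

namespace Groth.Agent.StFib.RatLift

variable {S : Scheme.{u}}

/-- A finite wide fibre product. -/
theorem exists_finite_wide (P : MorphismProperty Scheme.{u}) [P.IsStableUnderBaseChange]
    [P.IsStableUnderComposition] (hid : ∀ X : Scheme.{u}, P (𝟙 X)) {I : Type u} [Finite I] :
    ∀ {B : Over S} (X : I → Over S) (f : ∀ i, X i ⟶ B), (∀ i, P (f i).left) →
    ∃ (W : Over S) (w : W ⟶ B) (pr : ∀ i, W ⟶ X i), P w.left ∧ (∀ i, pr i ≫ f i = w) ∧
      (∀ (T : Over S) (b : T ⟶ B) (x : ∀ i, T ⟶ X i), (∀ i, x i ≫ f i = b) →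
        ∃ a : T ⟶ W, a ≫ w = b ∧ ∀ i, a ≫ pr i = x i) ∧
      (∀ (T : Over S) (a a' : T ⟶ W), a ≫ w = a' ≫ w → (∀ i, a ≫ pr i = a' ≫ pr i) → a = a') := by
  induction I using Finite.induction_empty_option with
  | of_equiv e ih =>
    intro B X f hf
    obtain ⟨W, w, pr, hw, hp, hl, hu⟩ := ih (fun i => X (e i)) (fun i => f (e i)) (fun i => hf (e i))
    have hb : ∀ j, ∃ q : W ⟶ X j, q ≫ f j = w ∧ ∀ i, e i = j → HEq q (pr i) := fun j => by
      obtain ⟨i, rfl⟩ := e.surjective j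
      exact ⟨pr i, hp i, fun i' h => by rw [e.injective h]⟩
    choose q hq hq' using hb
    have hq'' : ∀ i, q (e i) = pr i := fun i => eq_of_heq (hq' (e i) i rfl)
    refine ⟨W, w, q, hw, hq, fun T b x hx => ?_, fun T a a' h h' => hu T a a' h fun i => by
      rw [← hq'']; exact h' _⟩
    obtain ⟨a, ha, ha'⟩ := hl T b (fun i => x (e i)) fun i => hx _
    refine ⟨a, ha, fun j => ?_⟩
    obtain ⟨i, rfl⟩ := e.surjective j
    rw [hq'']; exact ha' i
  | h_empty =>
    intro B X f hf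
    exact ⟨B, 𝟙 B, fun i => i.elim, hid _, fun i => i.elim, fun T b x _ => ⟨b, Category.comp_id b, fun i => i.elim⟩,
      fun T a a' h _ => by simpa using h⟩
  | h_option ih =>
    intro B X f hf
    obtain ⟨W, w, pr, hw, hp, hl, hu⟩ := ih (fun i => X (some i)) (fun i => f (some i)) (fun i => hf _)
    have sq := IsPullback.of_hasPullback (f none) w
    refine ⟨pullback (f none) w, pullback.snd (f none) w ≫ w,
      fun o => match o with
        | none => pullback.fst _ _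
        | some i => pullback.snd (f none) w ≫ pr i, ?_, ?_, fun T b x hx => ?_, fun T a a' h h' => ?_⟩
    · rw [Over.comp_left]
      exact P.comp_mem _ _ (MorphismProperty.of_isPullback (sq.map (Over.forget S)) (hf none)) hw
    · rintro (_ | i)
      · exact pullback.condition
      · change (pullback.snd (f none) w ≫ pr i) ≫ f (some i) = _
        rw [Category.assoc, hp]
    · obtain ⟨a, ha, ha'⟩ := hl T b (fun i => x (some i)) fun i => hx _
      refine ⟨pullback.lift (x none) a (by rw [hx, ha]), by rw [pullback.lift_snd_assoc, ha], ?_⟩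
      rintro (_ | i)
      · exact pullback.lift_fst _ _ _
      · change _ ≫ pullback.snd (f none) w ≫ pr i = _
        rw [pullback.lift_snd_assoc, ha']
    · have h1 := h' none
      refine pullback.hom_ext h1 (hu T _ _ (by simpa only [Category.assoc] using h) fun i => ?_)
      simpa only [Category.assoc] using h' (some i)

variable {𝒳 : AlgSt.Cat S} {V : Over S} (v : overCat V ⥤ᵇ 𝒳) (G : Type u)

/-- A coherent system of isomorphisms of values of a chart. -/
structure Sys (T : Over S) : Type u where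
  u : G → (T ⟶ V)
  β : ∀ g h, VHom v v (u g) (u h)
  mul : ∀ g h l, (β g h).1 ≫ (β h l).1 = (β g l).1

variable {v} {G}

/-- The pair at two indices. -/
def Sys.pair {T : Over S} (s : Sys v G T) (g h : G) : Pair v v T := ⟨s.u g, s.u h, s.β g h⟩

/-- Restriction of systems. -/
def Sys.Res {T' T : Over S} (κ : T' ⟶ T) (s' : Sys v G T') (s : Sys v G T) : Prop :=
  ∀ g h, (s'.pair g h).Res κ (s.pair g h)

theorem Sys.one (h𝒳 : IsFibGrpd 𝒳.p) {T : Over S} (s : Sys v G T) (g : G) : (s.β g g).1 = 𝟙 _ := by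
  have := (s.β g g).2.isIso h𝒳
  rw [← cancel_epi (s.β g g).1]
  exact (s.mul g g g).trans (Category.comp_id _).symm

theorem Sys.res_of_base (h𝒳 : IsFibGrpd 𝒳.p) {T' T : Over S} {κ : T' ⟶ T} {s' : Sys v G T'} {s : Sys v G T}
    (i : G) (hr : ∀ g, (s'.pair i g).Res κ (s.pair i g)) : s'.Res κ s := by
  intro g h
  have := IsRes.comp (IsRes.inv h𝒳 (hr g)) (hr h)
  have key : ∀ {T₀ : Over S} (t : Sys v G T₀),
      (⟨((t.β i g).inv h𝒳).1 ≫ (t.β i h).1, ((t.β i g).inv h𝒳).2.comp (t.β i h).2⟩ :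
        VHom v v (t.u g) (t.u h)) = t.β g h := fun t => Subtype.ext (by
    change ((t.β i g).inv h𝒳).1 ≫ (t.β i h).1 = _
    rw [← t.mul i g h, ← Category.assoc, VHom.inv_comp, Category.id_comp])
  exact (congrArg₂ (IsRes κ) (key s') (key s)).mp this

variable [Group G]

/-- Translation of the indices. -/
def Sys.shift {T : Over S} (s : Sys v G T) (γ : G) : Sys v G T :=
  ⟨fun g => s.u (γ * g), fun g h => s.β (γ * g) (γ * h), fun g h l => s.mul _ _ _⟩

theorem Sys.Res.shift {T' T : Over S} {κ : T' ⟶ T} {s' : Sys v G T'} {s : Sys v G T} (hr : s'.Res κ s)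
    (γ : G) : (s'.shift γ).Res κ (s.shift γ) := fun g h => hr (γ * g) (γ * h)

variable (X : PairSp v v) (C : G → Over S) (m : ∀ δ, (AlgSp.yon S).obj (C δ) ⟶ X.A.obj)

/-- A coherent system together with lifts to the charts of the space of isomorphisms. -/
structure Fam (T : Over S) : Type (u + 2) where
  sys : Sys v G T
  c : G → ∀ δ : {δ : G // δ ≠ 1}, T ⟶ C δ
  eq : ∀ g (δ : {δ : G // δ ≠ 1}), (AlgSp.yon S).map (c g δ) ≫ m δ = (X.pts T).symm (sys.pair g (g * δ))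

/-- The scheme of families is smooth over the chart. -/
theorem exists_familyScheme (h𝒳 : IsFibGrpd 𝒳.p) [Finite G] (hm : ∀ δ, AlgSp.RepWith @Etale (m δ))
    (hs : AlgSp.LocP @Smooth X.fst) :
    ∃ (Y : Over S) (φ : Fam X C m Y), Smooth (φ.sys.u 1).left ∧
      (∀ (T : Over S) (ψ : Fam X C m T), ∃ a : T ⟶ Y, ψ.sys.Res a φ.sys ∧ ∀ g δ, a ≫ φ.c g δ = ψ.c g δ) ∧
      (∀ (T : Over S) (a a' : T ⟶ Y), a ≫ φ.sys.u 1 = a' ≫ φ.sys.u 1 →
        (∀ g δ, a ≫ φ.c g δ = a' ≫ φ.c g δ) → a = a') := by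
  classical
  let I₀ : Type u := {δ : G // δ ≠ 1}
  let cp : ∀ δ : G, Pair v v (C δ) := fun δ => X.pts _ (m δ)
  have hcs : ∀ δ : I₀, Smooth (cp δ).h.left := fun δ => by
    have h1 : AlgSp.LocP @Smooth (m δ) :=
      Groth.Agent.AlgSpCov.locP_of_repWith Groth.Agent.AlgSpCov.standard_smooth.etaleLocal
        (Groth.Agent.AlgSp.repWith_mono (fun g hg => (have : Etale g := hg; inferInstance : Smooth g)) (hm δ))
    have h2 := good_smooth.comp (isAlgSpace_yon _) X.A.property (isAlgSpace_yon V) _ _ h1 hs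
    rw [X.pts_fst] at h2
    exact scheme_mem_of_locP h2
  -- isomorphisms out of the first point
  obtain ⟨Y₀, w₀, pr, hw₀, hpr, hlift₀, huniq₀⟩ :=
    exists_finite_wide @Smooth (fun _ => inferInstance) (fun δ : I₀ => C δ) (fun δ => (cp δ).h) hcs
  have hB : ∀ δ : G, ∃ (u : Y₀ ⟶ V) (β : VHom v v w₀ u),
      (δ = 1 → u = w₀ ∧ HEq β.1 (𝟙 (v.obj (Over.mk w₀)))) ∧
      ∀ h : δ ≠ 1, (AlgSp.yon S).map (pr ⟨δ, h⟩) ≫ m δ = (X.pts Y₀).symm ⟨w₀, u, β⟩ := fun δ => by
    by_cases h : δ = 1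
    · exact ⟨w₀, ⟨𝟙 _, Vert.id _⟩, fun _ => ⟨rfl, HEq.rfl⟩, fun h' => (h' h).elim⟩
    · obtain ⟨h', g', β', e⟩ : ∃ h' g' β', X.pts Y₀ ((AlgSp.yon S).map (pr ⟨δ, h⟩) ≫ m δ) = ⟨h', g', β'⟩ :=
        ⟨_, _, _, rfl⟩
      have hh : h' = w₀ := by
        have := (X.pts_res (pr ⟨δ, h⟩) (m δ)).h_eq
        rw [e] at this
        exact this.symm.trans (hpr _)
      subst hh
      exact ⟨g', β', fun h' => (h h').elim, fun _ => by rw [← e, Equiv.symm_apply_apply]⟩
  choose u₀ β₁ hβone hβm using hB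
  let sys₀ : Sys v G Y₀ :=
    { u := u₀
      β := fun g h => ⟨((β₁ g).inv h𝒳).1 ≫ (β₁ h).1, ((β₁ g).inv h𝒳).2.comp (β₁ h).2⟩
      mul := fun g h l => by
        change (((β₁ g).inv h𝒳).1 ≫ (β₁ h).1) ≫ ((β₁ h).inv h𝒳).1 ≫ (β₁ l).1 = _
        rw [Category.assoc, ← Category.assoc (β₁ h).1, VHom.comp_inv, Category.id_comp] }
  have hu1 : u₀ 1 = w₀ := (hβone 1 rfl).1
  have hsys₀ : ∀ δ : I₀, sys₀.pair 1 δ = ⟨w₀, u₀ δ, β₁ δ⟩ := fun δ => by
    have key : ∀ (u₁ : Y₀ ⟶ V) (β : VHom v v w₀ u₁), u₁ = w₀ → HEq β.1 (𝟙 (v.obj (Over.mk w₀))) →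
        (⟨u₁, u₀ δ, ⟨(β.inv h𝒳).1 ≫ (β₁ δ).1, (β.inv h𝒳).2.comp (β₁ δ).2⟩⟩ : Pair v v Y₀) =
          ⟨w₀, u₀ δ, β₁ δ⟩ := by
      rintro _ β rfl hβ
      refine congrArg (Pair.mk _ _) (Subtype.ext ?_)
      change (β.inv h𝒳).1 ≫ (β₁ δ).1 = _
      have h1 := VHom.inv_comp h𝒳 β
      rw [eq_of_heq hβ, Category.comp_id] at h1
      rw [h1, Category.id_comp]
    exact key _ _ hu1 (hβone 1 rfl).2
  -- the other charts
  let I₁ : Type u := {g : G // g ≠ 1} × I₀
  let t : ∀ i : I₁, (AlgSp.yon S).obj Y₀ ⟶ X.A.obj := fun i => (X.pts Y₀).symm (sys₀.pair i.1 (i.1 * i.2))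
  have hD : ∀ i : I₁, ∃ (D : Over S) (d : D ⟶ Y₀) (cD : D ⟶ C i.2), Etale d.left ∧
      IsPullback ((AlgSp.yon S).map cD) ((AlgSp.yon S).map d) (m i.2) (t i) := fun i => by
    obtain ⟨cD, hcD⟩ := (AlgSp.yon S).map_surjective ((hm i.2).1.fst (t i))
    refine ⟨(hm i.2).1.pullback (t i), (hm i.2).1.snd (t i), cD,
      (hm i.2).2 _ _ _ ((hm i.2).1.isPullback (t i)), ?_⟩
    rw [hcD]
    exact (hm i.2).1.isPullback (t i)
  choose D d cD hd hsq using hD
  obtain ⟨Y, b, q, hb, hq, hlift, huniq⟩ :=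
    exists_finite_wide @Etale (fun _ => inferInstance) D d hd
  have hexres : ∃ s : Sys v G Y, s.Res b sys₀ := by
    have h := fun g h => Pair.exists_res h𝒳 b (sys₀.pair g h)
    have hu : ∀ g h : G, ∃ β : VHom v v (b ≫ u₀ g) (b ≫ u₀ h), IsRes b β (sys₀.β g h) := fun g h =>
      exists_isRes h𝒳 b rfl rfl _
    choose β hβ using hu
    refine ⟨⟨fun g => b ≫ u₀ g, β, fun g h l => ?_⟩, fun g h => hβ g h⟩
    have h1 := IsRes.comp (hβ g h) (hβ h l)
    have h2 : (⟨(sys₀.β g h).1 ≫ (sys₀.β h l).1, (sys₀.β g h).2.comp (sys₀.β h l).2⟩ :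
        VHom v v (u₀ g) (u₀ l)) = sys₀.β g l := Subtype.ext (sys₀.mul g h l)
    rw [h2] at h1
    exact congrArg Subtype.val (h1.unique h𝒳 (hβ g l))
  obtain ⟨sys, hres⟩ := hexres
  let c : G → ∀ δ : I₀, Y ⟶ C δ := fun g δ =>
    if h : g = 1 then b ≫ pr δ else q (⟨g, h⟩, δ) ≫ cD (⟨g, h⟩, δ)
  have heq : ∀ g (δ : I₀), (AlgSp.yon S).map (c g δ) ≫ m δ = (X.pts Y).symm (sys.pair g (g * δ)) := fun g δ => by
    rw [← X.map_symm h𝒳 (hres g (g * δ))]
    by_cases h : g = 1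
    · simp only [c, dif_pos h]
      subst h
      have e1 : sys₀.pair 1 (1 * (δ : G)) = sys₀.pair 1 δ := congrArg (sys₀.pair 1) (one_mul _)
      rw [Functor.map_comp, Category.assoc, hβm δ.1 δ.2, e1, hsys₀ δ]
    · simp only [c, dif_neg h]
      rw [Functor.map_comp, Category.assoc, (hsq _).w, ← Category.assoc, ← Functor.map_comp, hq]
  let φ : Fam X C m Y := ⟨sys, c, heq⟩
  refine ⟨Y, φ, ?_, fun T ψ => ?_, fun T a a' h h' => ?_⟩
  · have e : sys.u 1 = b ≫ w₀ := by rw [← hu1]; exact ((hres 1 1).h_eq).symm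
    change Smooth (sys.u 1).left
    rw [e, Over.comp_left]
    have : Smooth w₀.left := hw₀
    have : Etale b.left := hb
    infer_instance
  · have hx : ∀ δ : I₀, ψ.c 1 δ ≫ (cp δ).h = ψ.sys.u 1 := fun δ => by
      have := (X.res_of_map (ψ.eq 1 δ)).h_eq
      rw [Equiv.apply_symm_apply] at this
      exact this
    obtain ⟨a₀, ha₀, ha₀'⟩ := hlift₀ T (ψ.sys.u 1) (fun δ => ψ.c 1 δ) hx
    have hr₀ : ψ.sys.Res a₀ sys₀ := by
      refine Sys.res_of_base h𝒳 1 fun g => ?_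
      by_cases hg : g = 1
      · subst hg
        have e1 : ψ.sys.pair 1 1 = ⟨ψ.sys.u 1, ψ.sys.u 1, ⟨𝟙 _, Vert.id _⟩⟩ :=
          congrArg (Pair.mk _ _) (Subtype.ext (ψ.sys.one h𝒳 1))
        have e2 : sys₀.pair 1 1 = ⟨u₀ 1, u₀ 1, ⟨𝟙 _, Vert.id _⟩⟩ :=
          congrArg (Pair.mk _ _) (Subtype.ext (sys₀.one h𝒳 1))
        rw [e1, e2]
        exact isRes_id a₀ (by rw [hu1, ha₀])
      · have e1 : ψ.sys.pair 1 g = ψ.sys.pair 1 (1 * g) := congrArg (ψ.sys.pair 1) (one_mul _).symm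
        have e2 := ψ.eq 1 ⟨g, hg⟩
        rw [← ha₀' ⟨g, hg⟩, Functor.map_comp, Category.assoc, hβm g hg] at e2
        have := X.res_of_map e2
        rw [Equiv.apply_symm_apply, Equiv.apply_symm_apply, ← hsys₀ ⟨g, hg⟩, ← e1] at this
        exact this
    have hl : ∀ i : I₁, ∃ x : T ⟶ D i, x ≫ d i = a₀ ∧ x ≫ cD i = ψ.c i.1 i.2 := fun i => by
      obtain ⟨x, hx1, hx2⟩ := (hsq i).exists_lift ((AlgSp.yon S).map (ψ.c i.1 i.2)) ((AlgSp.yon S).map a₀)
        ((ψ.eq _ _).trans (X.map_symm h𝒳 (hr₀ i.1 (i.1 * i.2))).symm)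
      obtain ⟨x, rfl⟩ := (AlgSp.yon S).map_surjective x
      rw [← Functor.map_comp] at hx1 hx2
      exact ⟨x, (AlgSp.yon S).map_injective hx2, (AlgSp.yon S).map_injective hx1⟩
    choose x hx1 hx2 using hl
    obtain ⟨a, ha, ha'⟩ := hlift T a₀ x hx1
    refine ⟨a, fun g h => ?_, fun g δ => ?_⟩
    · obtain ⟨p, hp⟩ := Pair.exists_res h𝒳 a (sys.pair g h)
      have h2 := hp.trans (hres g h)
      rw [ha] at h2
      rw [(hr₀ g h).unique h𝒳 h2]
      exact hp
    · change a ≫ c g δ = _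
      by_cases h : g = 1
      · subst h
        simp only [c, dif_pos]
        rw [reassoc_of% ha, ha₀']
      · simp only [c, dif_neg h]
        rw [reassoc_of% (ha' (⟨g, h⟩, δ)), hx2]
  · have e : sys.u 1 = b ≫ w₀ := by rw [← hu1]; exact ((hres 1 1).h_eq).symm
    have h0 : a ≫ b = a' ≫ b := by
      refine huniq₀ T _ _ ?_ fun δ => ?_
      · change a ≫ sys.u 1 = a' ≫ sys.u 1 at h
        rw [Category.assoc, Category.assoc, ← e, h]
      · have := h' 1 δ
        change a ≫ c 1 δ = a' ≫ c 1 δ at this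
        simp only [c, dif_pos] at this
        rw [Category.assoc, Category.assoc, this]
    refine huniq T _ _ h0 fun i => (AlgSp.yon S).map_injective ((hsq i).hom_ext ?_ ?_)
    · have := h' i.1 i.2
      change a ≫ c i.1 i.2 = a' ≫ c i.1 i.2 at this
      simp only [c, dif_neg i.1.2] at this
      rw [← Functor.map_comp, ← Functor.map_comp, Category.assoc, Category.assoc]
      exact congrArg _ this
    · rw [← Functor.map_comp, ← Functor.map_comp, Category.assoc, Category.assoc, hq, h0]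

end Groth.Agent.StFib.RatLift
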