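import Groth.Agent.GalCohAux.GalTwDescent
import Groth.Agent.AlgSp.Quot
import Groth.Agent.AlgSp.InfGlue
import Groth.Agent.AlgSpB.LqfLocal
import Mathlib.AlgebraicGeometry.Morphisms.FormallyUnramified

/-!
# Descent of points of a sheaf along a finite Galois extension
-/

set_option autoImplicit false
set_option linter.unusedVariables false
set_option backward.isDefEq.respectTransparency false
set_option backward.isDefEq.respectTransparency.types false

universe u

open CategoryTheory CategoryTheory.Limits AlgebraicGeometry Opposite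

namespace Groth.Agent.StFib.RatLift

/-- Two maps into an unramified scheme which agree at a point agree near it. -/
theorem exists_open_eq {A B T : Scheme.{u}} (j : A ⟶ B) [FormallyUnramified j] [LocallyOfFiniteType j]
    (a b : T ⟶ A) (h : a ≫ j = b ≫ j) (x : T)
    (hx : T.fromSpecResidueField x ≫ a = T.fromSpecResidueField x ≫ b) :
    ∃ O : T.Opens, x ∈ O ∧ O.ι ≫ a = O.ι ≫ b := by
  let l : T ⟶ pullback j j := pullback.lift a b h
  have e : T.fromSpecResidueField x ≫ l = (T.fromSpecResidueField x ≫ a) ≫ pullback.diagonal j := by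
    apply pullback.hom_ext <;> simp [l, hx]
  let O : T.Opens := l ⁻¹ᵁ (pullback.diagonal j).opensRange
  refine ⟨O, ?_, ?_⟩
  · refine ⟨(T.fromSpecResidueField x ≫ a) (IsLocalRing.closedPoint (T.residueField x)), ?_⟩
    rw [← Scheme.Hom.comp_apply, ← e, Scheme.Hom.comp_apply, Scheme.fromSpecResidueField_apply]
  · have hsub : Set.range (O.ι ≫ l) ⊆ Set.range (pullback.diagonal j) := by
      rintro _ ⟨q, rfl⟩
      exact q.2
    have hl := IsOpenImmersion.lift_fac (pullback.diagonal j) (O.ι ≫ l) hsub
    have h1 := congrArg (· ≫ pullback.fst j j) hl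
    have h2 := congrArg (· ≫ pullback.snd j j) hl
    simp only [l, Category.assoc, pullback.lift_fst, pullback.lift_snd, pullback.diagonal_fst,
      pullback.diagonal_snd, Category.comp_id] at h1 h2
    exact h1.symm.trans h2

variable {S : Scheme.{u}} {k : Type u} [Field k] (σ : Spec (CommRingCat.of k) ⟶ S) (L : Type u) [Field L]
  [Algebra k L]

/-- The spectrum of an extension field over `S`. -/
noncomputable abbrev extPt : Over S := Over.mk (Spec.map (CommRingCat.ofHom (algebraMap k L)) ≫ σ)

/-- The projection to the spectrum of the ground field. -/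
noncomputable abbrev extProj : extPt σ L ⟶ Over.mk σ :=
  Over.homMk (Spec.map (CommRingCat.ofHom (algebraMap k L))) rfl

variable {L}

/-- The action of an automorphism. -/
noncomputable def galθ (γ : L ≃ₐ[k] L) : extPt σ L ⟶ extPt σ L :=
  Over.homMk (Spec.map (CommRingCat.ofHom (γ : L →+* L))) (by
    change Spec.map _ ≫ Spec.map _ ≫ σ = Spec.map _ ≫ σ
    rw [← Spec.map_comp_assoc, ← CommRingCat.ofHom_comp]
    congr 3
    exact RingHom.ext γ.commutes)

theorem galθ_one : galθ σ (1 : L ≃ₐ[k] L) = 𝟙 _ :=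
  Over.OverMorphism.ext (by
    change Spec.map (CommRingCat.ofHom (RingHom.id L)) = 𝟙 _
    exact Spec.map_id _)

theorem galθ_mul (γ γ' : L ≃ₐ[k] L) : galθ σ (γ * γ') = galθ σ γ ≫ galθ σ γ' :=
  Over.OverMorphism.ext (by
    change Spec.map (CommRingCat.ofHom ((γ : L →+* L).comp (γ' : L →+* L))) = _
    rw [CommRingCat.ofHom_comp, Spec.map_comp]
    rfl)

theorem galθ_proj (γ : L ≃ₐ[k] L) : galθ σ γ ≫ extProj σ L = extProj σ L :=
  Over.OverMorphism.ext (by
    change Spec.map _ ≫ Spec.map _ = Spec.map _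
    rw [← Spec.map_comp, ← CommRingCat.ofHom_comp]
    congr 2
    exact RingHom.ext γ.commutes)

variable [FiniteDimensional k L] [IsGalois k L]

instance etale_extProj : Etale (extProj σ L).left := by
  change Etale (Spec.map (CommRingCat.ofHom (algebraMap k L)))
  rw [HasRingHomProperty.Spec_iff (P := @Etale), CommRingCat.hom_ofHom]
  have : Algebra.FormallyEtale k L := Algebra.FormallyEtale.of_isSeparable k L
  have : Algebra.FinitePresentation k L := Algebra.FinitePresentation.of_finiteType.1 inferInstance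
  exact RingHom.etale_algebraMap.2 ⟨inferInstance, inferInstance⟩

instance surjective_extProj : Surjective (extProj σ L).left :=
  ⟨fun y => ⟨(default : Spec (CommRingCat.of L)), Subsingleton.elim (α := ↥(Spec (CommRingCat.of k))) _ _⟩⟩

/-- Two points of the extension over the ground field differ locally by an automorphism. -/
theorem exists_galois_open {T : Over S} (a b : T ⟶ extPt σ L) (h : a ≫ extProj σ L = b ≫ extProj σ L)
    (x : T.left) :
    ∃ (γ : L ≃ₐ[k] L) (O : T.left.Opens), x ∈ O ∧ O.ι ≫ b.left = O.ι ≫ (a ≫ galθ σ γ).left := by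
  let s : Spec (T.left.residueField x) ⟶ T.left := T.left.fromSpecResidueField x
  have h' : a.left ≫ Spec.map (CommRingCat.ofHom (algebraMap k L)) =
      b.left ≫ Spec.map (CommRingCat.ofHom (algebraMap k L)) := congrArg (fun m => m.left) h
  have e : CommRingCat.ofHom (algebraMap k L) ≫ Spec.preimage (s ≫ a.left) =
      CommRingCat.ofHom (algebraMap k L) ≫ Spec.preimage (s ≫ b.left) := by
    apply Spec.map_injective
    rw [Spec.map_comp, Spec.map_comp, Spec.map_preimage, Spec.map_preimage, Category.assoc, Category.assoc]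
    exact congrArg (s ≫ ·) h'
  obtain ⟨γ, hγ⟩ := GalCohAux.GalTwDescent.exists_galois_of_comp_eq (Spec.preimage (s ≫ a.left)).hom
    (Spec.preimage (s ≫ b.left)).hom (congrArg CommRingCat.Hom.hom e)
  have h2 : Spec.preimage (s ≫ b.left) = CommRingCat.ofHom (γ : L →+* L) ≫ Spec.preimage (s ≫ a.left) :=
    CommRingCat.hom_ext hγ
  have hx : s ≫ b.left = s ≫ (a ≫ galθ σ γ).left := by
    rw [← Spec.map_preimage (s ≫ b.left), h2, Spec.map_comp, Spec.map_preimage, Over.comp_left, Category.assoc]
    rfl
  obtain ⟨O, hO, hOe⟩ := exists_open_eq (extProj σ L).left b.left (a ≫ galθ σ γ).left (by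
    rw [← Over.comp_left, ← Over.comp_left, Category.assoc, galθ_proj, h]) x hx
  exact ⟨γ, O, hO, hOe⟩

/-- Invariant points descend to the ground field. -/
theorem exists_descend_galois {F : AlgSp.Sp S} (r : (AlgSp.yon S).obj (extPt σ L) ⟶ F)
    (hr : ∀ γ : L ≃ₐ[k] L, (AlgSp.yon S).map (galθ σ γ) ≫ r = r) :
    ∃ r₀ : (AlgSp.yon S).obj (Over.mk σ) ⟶ F, (AlgSp.yon S).map (extProj σ L) ≫ r₀ = r := by
  have : Sheaf.IsLocallySurjective ((AlgSp.yon S).map (extProj σ L)) :=
    Groth.Agent.AlgSpB.locSurj_yon (extProj σ L)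
  let p₁ := pullback.fst (extProj σ L) (extProj σ L)
  let p₂ := pullback.snd (extProj σ L) (extProj σ L)
  have sq : IsPullback ((AlgSp.yon S).map p₁) ((AlgSp.yon S).map p₂) ((AlgSp.yon S).map (extProj σ L))
      ((AlgSp.yon S).map (extProj σ L)) := (IsPullback.of_hasPullback _ _).map _
  obtain ⟨c⟩ := Groth.Agent.AlgSp.isColimit_of_isPullback ((AlgSp.yon S).map (extProj σ L)) sq
  choose γ O hxO hO using exists_galois_open σ p₂ p₁ pullback.condition.symm
  let T := pullback (extProj σ L) (extProj σ L)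
  let q : ∀ x : T.left, Over.mk ((O x).ι ≫ T.hom) ⟶ T := fun x => Over.homMk (O x).ι rfl
  have heq : (AlgSp.yon S).map p₁ ≫ r = (AlgSp.yon S).map p₂ ≫ r := by
    refine Groth.Agent.AlgSp.InfGlue.hom_ext_cover q (fun x => inferInstanceAs (Etale (O x).ι))
      (fun x => ⟨x, ⟨x, hxO x⟩, rfl⟩) _ _ fun x => ?_
    have e : q x ≫ p₁ = q x ≫ p₂ ≫ galθ σ (γ x) := Over.OverMorphism.ext (hO x)
    rw [← Functor.map_comp_assoc, e, Functor.map_comp, Functor.map_comp, Category.assoc, Category.assoc, hr]
  exact ⟨c.desc (Cofork.ofπ r heq), c.fac (Cofork.ofπ r heq) WalkingParallelPair.one⟩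

theorem epi_extProj : Epi ((AlgSp.yon S).map (extProj σ L)) := by
  have : Sheaf.IsLocallySurjective ((AlgSp.yon S).map (extProj σ L)) :=
    Groth.Agent.AlgSpB.locSurj_yon (extProj σ L)
  exact (Sheaf.isLocallySurjective_iff_epi _).1 ‹_›

end Groth.Agent.StFib.RatLift
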