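import Groth.Agent.StFib.RatLift.Chart
import Groth.Agent.StFib.RatLift.Descent
import Groth.Agent.AlgSp.GaloisData
import Groth.Agent.AlgSp.DescentSepLqf

/-!
# Lifting points with values in a field to smooth affine charts
-/

set_option autoImplicit false
set_option linter.unusedVariables false
set_option backward.isDefEq.respectTransparency false
set_option backward.isDefEq.respectTransparency.types false
set_option maxHeartbeats 800000

universe u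

open CategoryTheory CategoryTheory.Limits AlgebraicGeometry Opposite FibCat
open Groth.Agent.IsoCls Groth.Agent.StFib

namespace Groth.Agent.StFib.RatLift

variable {S : Scheme.{u}} {𝒳 : AlgSt.Cat S}

theorem isRes_comp_overMap {V W : Over S} (v : overCat V ⥤ᵇ 𝒳) (f : W ⟶ V) {T' T : Over S} {κ : T' ⟶ T}
    {a b : T ⟶ W} {a' b' : T' ⟶ W} {β' : VHom v v (a' ≫ f) (b' ≫ f)} {β : VHom v v (a ≫ f) (b ≫ f)}
    (ea : κ ≫ a = a') (eb : κ ≫ b = b') (hr : IsRes κ β' β) :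
    @IsRes S 𝒳 W W (BasedFunctor.comp (AlgSt.overMap f) v) (BasedFunctor.comp (AlgSt.overMap f) v) T' T κ
      a b a' b' β' β := by
  obtain ⟨p, q, hp, hq, e⟩ := hr
  let p' : (Over.mk a' : (overCat W).obj) ⟶ Over.mk a := Over.homMk κ ea
  let q' : (Over.mk b' : (overCat W).obj) ⟶ Over.mk b := Over.homMk κ eb
  refine ⟨p', q', rfl, rfl, ?_⟩
  have e1 : (AlgSt.overMap f).map p' = p := Over.OverMorphism.ext hp.symm
  have e2 : (AlgSt.overMap f).map q' = q := Over.OverMorphism.ext hq.symm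
  change β'.1 ≫ v.map ((AlgSt.overMap f).map q') = v.map ((AlgSt.overMap f).map p') ≫ β.1
  rw [e1, e2]
  exact e

theorem isRes_left_overMap {V W U : Over S} (v : overCat V ⥤ᵇ 𝒳) (x : overCat U ⥤ᵇ 𝒳) (f : W ⟶ V)
    {T' T : Over S} {κ : T' ⟶ T} {a : T ⟶ W} {a' : T' ⟶ W} {g : T ⟶ U} {g' : T' ⟶ U}
    {β' : VHom v x (a' ≫ f) g'} {β : VHom v x (a ≫ f) g} (ea : κ ≫ a = a') (hr : IsRes κ β' β) :
    @IsRes S 𝒳 U W (BasedFunctor.comp (AlgSt.overMap f) v) x T' T κ a g a' g' β' β := by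
  obtain ⟨p, q, hp, hq, e⟩ := hr
  let p' : (Over.mk a' : (overCat W).obj) ⟶ Over.mk a := Over.homMk κ ea
  refine ⟨p', q, rfl, hq, ?_⟩
  have e1 : (AlgSt.overMap f).map p' = p := Over.OverMorphism.ext hp.symm
  change β'.1 ≫ x.map q = v.map ((AlgSt.overMap f).map p') ≫ β.1
  rw [e1]
  exact e

variable {k : Type u} [Field k] (σ : Spec (CommRingCat.of k) ⟶ S) {L : Type u} [Field L] [Algebra k L]
  [FiniteDimensional k L] [IsGalois k L]

/-- An equivariant point of a free smooth chart descends to a point of an affine smooth chart. -/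
theorem exists_lift_of_equivariant (h : Stk.IsStack (QuotSh.J Scheme.etalePrecoverage S) 𝒳)
    (hd : AlgSt.RepByAlgSp1 (diag (toSelf 𝒳))) (x : overCat (Over.mk σ) ⥤ᵇ 𝒳) {V : Over S}
    (v : overCat V ⥤ᵇ 𝒳) (hv : AlgSt.RepByAlgSpWith (AlgSp.LocP @Smooth) v) {Y : Over S}
    (s : Sys v (L ≃ₐ[k] L) Y) (act : (L ≃ₐ[k] L) → (Y ⟶ Y)) (hsm : Smooth (s.u 1).left)
    (hact1 : act 1 = 𝟙 Y) (hactm : ∀ γ γ', act (γ * γ') = act γ ≫ act γ')
    (hshift : ∀ γ, (s.shift γ).Res (act γ) s)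
    (hfree : ∀ (T : Over S) [Nonempty T.left] (b : T ⟶ Y) (γ : L ≃ₐ[k] L), b ≫ act γ = b → γ = 1)
    (a : extPt σ L ⟶ Y) (sA : Sys v (L ≃ₐ[k] L) (extPt σ L)) (ha : sA.Res a s)
    (haγ : ∀ γ, galθ σ γ ≫ a = a ≫ act γ) (ω : ∀ g, VHom v x (sA.u g) (extProj σ L))
    (hω : ∀ γ g, IsRes (galθ σ γ) (ω (γ * g)) (ω g))
    (hβω : ∀ g h, (sA.β g h).1 ≫ (ω h).1 = (ω g).1) :
    ∃ (Z : Over S) (_ : IsAffine Z.left) (p : overCat Z ⥤ᵇ 𝒳) (g : Over.mk σ ⟶ Z),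
      AlgSt.RepByAlgSpWith (AlgSp.LocP @Smooth) p ∧ Nonempty (BasedFunctor.comp (AlgSt.overMap g) p ≅ x) := by
  classical
  have h𝒳 : IsFibGrpd 𝒳.p := h.1
  let G := L ≃ₐ[k] L
  have hactinv : ∀ γ : G, act γ ≫ act γ⁻¹ = 𝟙 Y := fun γ => by rw [← hactm, mul_inv_cancel, hact1]
  have hactinv' : ∀ γ : G, act γ⁻¹ ≫ act γ = 𝟙 Y := fun γ => by rw [← hactm, inv_mul_cancel, hact1]
  let ρ : G →* Aut Y := MonoidHom.mk' (fun γ => ⟨act γ⁻¹, act γ, hactinv' γ, hactinv γ⟩) fun γ γ' =>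
    Iso.ext (by
      change act (γ * γ')⁻¹ = act γ'⁻¹ ≫ act γ⁻¹
      rw [mul_inv_rev, hactm])
  have hfree' : ∀ (g : G) (y : Y.left), g ≠ 1 →
      Y.left.fromSpecResidueField y ≫ (ρ g).hom.left ≠ Y.left.fromSpecResidueField y := fun g y hg e => by
    let T : Over S := Over.mk (Y.left.fromSpecResidueField y ≫ Y.hom)
    let b : T ⟶ Y := Over.homMk (Y.left.fromSpecResidueField y) rfl
    have : Nonempty T.left := inferInstanceAs (Nonempty (PrimeSpectrum (Y.left.residueField y)))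
    exact hg (inv_eq_one.1 (hfree T b g⁻¹ (Over.OverMorphism.ext e)))
  -- the quotient
  let cof : Cofan (fun _ : G => Y) := Cofan.mk (∐ fun _ : G => Y) (Sigma.ι _)
  have hcof : IsColimit cof := coproductIsCoproduct _
  let sR : cof.pt ⟶ Y := Sigma.desc fun _ => 𝟙 Y
  let tR : cof.pt ⟶ Y := Sigma.desc fun g => (ρ g).hom
  have hsR : ∀ g, cof.inj g ≫ sR = 𝟙 Y := fun g => Sigma.ι_desc _ _
  have htR : ∀ g, cof.inj g ≫ tR = (ρ g).hom := fun g => Sigma.ι_desc _ _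
  have hE := Groth.Agent.AlgSp.isEtaleEqvRel_of_free ρ hfree' hcof hsR htR
  obtain ⟨ho, hcov, hdis⟩ := Groth.Agent.AlgSp.cofan_over_props hcof
  let q := Groth.Agent.AlgSp.yπ sR tR
  have := Groth.Agent.AlgSp.isLocallySurjective_yπ sR tR
  have sqR := Groth.Agent.AlgSp.isPullback_yπ sR tR hE.toIsEqvRel
  obtain ⟨hF, hqe, hqs⟩ := Groth.Agent.AlgSp.isAlgSpace_of_kernelPair q sqR hE.etale_left
  -- the point of the quotient and a chart
  have hinvpt : ∀ γ : G, (AlgSp.yon S).map (galθ σ γ) ≫ (AlgSp.yon S).map a ≫ q = (AlgSp.yon S).map a ≫ q :=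
    fun γ => by
      have h1 := Groth.Agent.AlgSp.map_translate_yπ ρ hsR htR hE.toIsEqvRel a γ⁻¹
      change (AlgSp.yon S).map (a ≫ act γ⁻¹⁻¹) ≫ q = _ at h1
      rwa [inv_inv, ← haγ, Functor.map_comp, Category.assoc] at h1
  obtain ⟨ξ, hξ⟩ := exists_descend_galois σ ((AlgSp.yon S).map a ≫ q) hinvpt
  obtain ⟨Z, mZ, gk, hZ, hmZ, hgk⟩ := Groth.Agent.AlgSpEN.exists_affine_chart_field hF σ ξ
  -- the covering of the chart
  obtain ⟨w', hw'⟩ := (AlgSp.yon S).map_surjective (hqe.1.fst mZ)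
  let W : Over S := hqe.1.pullback mZ
  let c : W ⟶ Z := hqe.1.snd mZ
  let w : W ⟶ Y := w'
  have sq : IsPullback ((AlgSp.yon S).map w) ((AlgSp.yon S).map c) q mZ := by
    change IsPullback ((AlgSp.yon S).map w') _ _ _
    rw [hw']
    exact hqe.1.isPullback mZ
  have : Etale c.left := hqe.2 _ _ _ sq
  have : Surjective c.left := hqs.2 _ _ _ sq
  have hwe : Etale w.left := hmZ.2 _ _ _ sq.flip
  -- the universal isomorphism on the relation
  obtain ⟨X, hX⟩ := exists_pairSp h𝒳 v v (repByAlgSp1_of_with hv)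
  let pc : G → ((AlgSp.yon S).obj Y ⟶ X.A.obj) := fun g => (X.pts Y).symm (s.pair 1 (g⁻¹ * 1))
  obtain ⟨Φ, hΦ⟩ := Groth.Agent.AlgSp.InfGlue.exists_glue (T := cof.pt) (U := fun _ : G => Y) (fun g => cof.inj g)
    (fun g => have := ho g; inferInstance) hcov pc fun i j Z' a' b' e => by
      rcases isEmpty_or_nonempty Z'.left with hZ' | ⟨⟨z⟩⟩
      · exact Groth.Agent.AlgSp.InfGlue.hom_ext_cover (T := Z') (U := fun i : PEmpty.{u + 1} => i.elim)
          (fun i => i.elim) (fun i => i.elim) (fun z => (hZ'.false z).elim) _ _ fun i => i.elim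
      · have hij : i = j := hdis i j ((a' ≫ cof.inj i).left z) ⟨a'.left z, rfl⟩ ⟨b'.left z, by rw [e]; rfl⟩
        subst hij
        have hab : a' = b' := by
          have := congrArg (· ≫ sR) e
          simpa only [Category.assoc, hsR, Category.comp_id] using this
        rw [hab]
  let P₀ : Pair v v cof.pt := X.pts _ Φ
  have hP₀piece : ∀ g, (s.pair 1 (g⁻¹ * 1)).Res (cof.inj g) P₀ := fun g => by
    have := X.res_of_map (hΦ g)
    rwa [Equiv.apply_symm_apply] at this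
  have hext : ∀ {U : Over S} (f₁ f₂ : cof.pt ⟶ U), (∀ g, cof.inj g ≫ f₁ = cof.inj g ≫ f₂) → f₁ = f₂ :=
    fun f₁ f₂ hg => Cofan.IsColimit.hom_ext hcof _ _ hg
  have hP₀h : P₀.h = sR ≫ s.u 1 := hext _ _ fun g => by
    rw [(hP₀piece g).h_eq, reassoc_of% (hsR g)]
    rfl
  have hP₀g : P₀.g = tR ≫ s.u 1 := hext _ _ fun g => by
    rw [(hP₀piece g).g_eq, reassoc_of% (htR g)]
    exact ((hshift g⁻¹ 1 1).h_eq).symm
  -- descent data
  let f : W ⟶ V := w ≫ s.u 1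
  have hr : ∀ {T : Over S} (b b' : T ⟶ W), b ≫ c = b' ≫ c → ∃ r : T ⟶ cof.pt, r ≫ tR = b' ≫ w ∧ r ≫ sR = b ≫ w :=
    fun {T} b b' e => by
      have hq : (AlgSp.yon S).map (b' ≫ w) ≫ q = (AlgSp.yon S).map (b ≫ w) ≫ q := by
        rw [Functor.map_comp, Category.assoc, sq.w, ← Category.assoc, ← Functor.map_comp, ← e,
          Functor.map_comp, Category.assoc, ← sq.w, ← Category.assoc, ← Functor.map_comp]
      obtain ⟨r, h1, h2⟩ := sqR.exists_lift _ _ hq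
      obtain ⟨r, rfl⟩ := (AlgSp.yon S).map_surjective r
      rw [← Functor.map_comp] at h1 h2
      exact ⟨r, (AlgSp.yon S).map_injective h1, (AlgSp.yon S).map_injective h2⟩
  choose r hrt hrs using @hr
  have hφex : ∀ {T : Over S} (b b' : T ⟶ W) (e : b ≫ c = b' ≫ c), ∃ β : VHom v v (b ≫ f) (b' ≫ f),
      (X.pts T).symm ⟨b ≫ f, b' ≫ f, β⟩ = (AlgSp.yon S).map (r b b' e) ≫ Φ := fun {T} b b' e => by
    have hres := X.pts_res (r b b' e) Φ
    generalize hp : X.pts T ((AlgSp.yon S).map (r b b' e) ≫ Φ) = p at hres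
    obtain ⟨ph, pg, pβ⟩ := p
    obtain rfl : ph = b ≫ f := by
      refine hres.h_eq.symm.trans ?_
      change r b b' e ≫ P₀.h = _
      rw [hP₀h, reassoc_of% (hrs b b' e)]
    obtain rfl : pg = b' ≫ f := by
      refine hres.g_eq.symm.trans ?_
      change r b b' e ≫ P₀.g = _
      rw [hP₀g, reassoc_of% (hrt b b' e)]
    exact ⟨pβ, (Equiv.symm_apply_eq _).2 hp.symm⟩
  choose φ hφ using @hφex
  have hloc : ∀ {T' T : Over S} (κ : T' ⟶ T) (b b' : T ⟶ W) (e : b ≫ c = b' ≫ c) (a'' : T' ⟶ Y) (g : G),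
      κ ≫ b ≫ w = a'' → κ ≫ b' ≫ w = a'' ≫ act g →
        (AlgSp.yon S).map κ ≫ (X.pts T).symm ⟨b ≫ f, b' ≫ f, φ b b' e⟩ =
          (AlgSp.yon S).map a'' ≫ (X.pts Y).symm (s.pair 1 (g * 1)) := by
    intro T' T κ b b' e a'' g h1 h2
    have hk : κ ≫ r b b' e = a'' ≫ cof.inj g⁻¹ := by
      refine hE.injective T' _ _ ?_ ?_
      · rw [Category.assoc, hrt, Category.assoc, htR, h2]
        change _ = a'' ≫ act g⁻¹⁻¹
        rw [inv_inv]
      · rw [Category.assoc, hrs, Category.assoc, hsR, h1, Category.comp_id]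
    rw [hφ, ← Category.assoc, ← Functor.map_comp, hk, Functor.map_comp, Category.assoc, hΦ]
    change _ ≫ (X.pts Y).symm (s.pair 1 (g⁻¹⁻¹ * 1)) = _
    rw [inv_inv]
  have hnatv : ∀ {T' T : Over S} (κ : T' ⟶ T) (b b' : T ⟶ W) (e : b ≫ c = b' ≫ c),
      IsRes κ (φ (κ ≫ b) (κ ≫ b') (by rw [Category.assoc, e, Category.assoc])) (φ b b' e) := by
    intro T' T κ b b' e
    have hk : (AlgSp.yon S).map κ ≫ (X.pts T).symm ⟨b ≫ f, b' ≫ f, φ b b' e⟩ =
        (X.pts T').symm ⟨(κ ≫ b) ≫ f, (κ ≫ b') ≫ f, φ (κ ≫ b) (κ ≫ b') (by rw [Category.assoc, e, Category.assoc])⟩ := by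
      rw [hφ, hφ, ← Category.assoc, ← Functor.map_comp]
      congr 2
      refine hE.injective T' _ _ ?_ ?_
      · rw [Category.assoc, hrt, hrt, Category.assoc]
      · rw [Category.assoc, hrs, hrs, Category.assoc]
    have := X.res_of_map hk
    rw [Equiv.apply_symm_apply, Equiv.apply_symm_apply] at this
    exact this
  have hmulv : ∀ {T : Over S} (b₁ b₂ b₃ : T ⟶ W) (e : b₁ ≫ c = b₂ ≫ c) (e' : b₂ ≫ c = b₃ ≫ c),
      (φ b₁ b₂ e).1 ≫ (φ b₂ b₃ e').1 = (φ b₁ b₃ (e.trans e')).1 := by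
    intro T b₁ b₂ b₃ e e'
    let βc : VHom v v (b₁ ≫ f) (b₃ ≫ f) :=
      ⟨(φ b₁ b₂ e).1 ≫ (φ b₂ b₃ e').1, (φ b₁ b₂ e).2.comp (φ b₂ b₃ e').2⟩
    suffices hh : (X.pts T).symm ⟨b₁ ≫ f, b₃ ≫ f, βc⟩ = (X.pts T).symm ⟨b₁ ≫ f, b₃ ≫ f, φ b₁ b₃ (e.trans e')⟩ by
      have h1 := (X.pts T).symm.injective hh
      injection h1 with _ _ h2
      exact congrArg Subtype.val h2
    choose g₁ W₁ q₁ hq₁ hy₁ hqt₁ _ using Groth.Agent.AlgSp.exists_piece_eq ρ hcof hsR htR (r b₁ b₂ e)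
    refine Groth.Agent.AlgSp.InfGlue.hom_ext_cover (T := T) (U := W₁) q₁
      (fun y => have := hq₁ y; inferInstance) (fun y => ⟨y, hy₁ y⟩) _ _ fun y => ?_
    choose g₂ W₂ q₂ hq₂ hy₂ hqt₂ _ using Groth.Agent.AlgSp.exists_piece_eq ρ hcof hsR htR (q₁ y ≫ r b₂ b₃ e')
    refine Groth.Agent.AlgSp.InfGlue.hom_ext_cover (T := W₁ y) (U := W₂) q₂
      (fun z => have := hq₂ z; inferInstance) (fun z => ⟨z, hy₂ z⟩) _ _ fun z => ?_
    simp only [← Category.assoc, ← Functor.map_comp]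
    let κ := q₂ z ≫ q₁ y
    let a'' := κ ≫ b₁ ≫ w
    have h12 : κ ≫ b₂ ≫ w = a'' ≫ act (g₁ y)⁻¹ := by
      rw [← hrt b₁ b₂ e]
      simp only [κ, a'', Category.assoc]
      rw [hqt₁ y, reassoc_of% (hrs b₁ b₂ e)]
      rfl
    have h23 : κ ≫ b₃ ≫ w = a'' ≫ act (g₁ y)⁻¹ ≫ act (g₂ z)⁻¹ := by
      have h3 := hqt₂ z
      simp only [Category.assoc] at h3
      rw [hrt, reassoc_of% (hrs b₂ b₃ e')] at h3
      rw [← Category.assoc a'', ← h12]
      simp only [κ, Category.assoc]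
      exact h3
    obtain ⟨sT, hsT⟩ := Sys.exists_res h𝒳 a'' s
    have r12 := hloc κ b₁ b₂ e a'' (g₁ y)⁻¹ rfl h12
    have r23 := hloc κ b₂ b₃ e' (a'' ≫ act (g₁ y)⁻¹) (g₂ z)⁻¹ h12 (by rw [h23]; simp only [a'', Category.assoc])
    have r13 := hloc κ b₁ b₃ (e.trans e') a'' ((g₁ y)⁻¹ * (g₂ z)⁻¹) rfl (by rw [h23, hactm])
    rw [(AlgSp.yon S).map_comp a'' (act (g₁ y)⁻¹), Category.assoc, X.map_symm h𝒳 (hshift (g₁ y)⁻¹ 1 ((g₂ z)⁻¹ * 1))] at r23
    rw [X.map_symm h𝒳 (hsT _ _)] at r12 r13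
    change _ = (AlgSp.yon S).map a'' ≫ (X.pts Y).symm (s.pair ((g₁ y)⁻¹ * 1) ((g₁ y)⁻¹ * ((g₂ z)⁻¹ * 1))) at r23
    rw [X.map_symm h𝒳 (hsT _ _)] at r23
    rw [mul_one] at r12 r13
    rw [mul_one, mul_one] at r23
    have e12 := X.res_of_map r12
    have e23 := X.res_of_map r23
    rw [Equiv.apply_symm_apply, Equiv.apply_symm_apply] at e12 e23
    have ec := IsRes.comp e12 e23
    have ecp : (sT.pair 1 ((g₁ y)⁻¹ * (g₂ z)⁻¹)).Res κ (⟨b₁ ≫ f, b₃ ≫ f, βc⟩ : Pair v v T) := by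
      have h2 : (⟨(sT.β 1 (g₁ y)⁻¹).1 ≫ (sT.β (g₁ y)⁻¹ ((g₁ y)⁻¹ * (g₂ z)⁻¹)).1,
          (sT.β _ _).2.comp (sT.β _ _).2⟩ : VHom v v (sT.u 1) (sT.u ((g₁ y)⁻¹ * (g₂ z)⁻¹))) =
            sT.β 1 ((g₁ y)⁻¹ * (g₂ z)⁻¹) := Subtype.ext (sT.mul _ _ _)
      exact (congrArg (fun β => IsRes κ β βc) h2).mp ec
    exact (X.map_symm h𝒳 ecp).trans r13.symm
  let y : overCat W ⥤ᵇ 𝒳 := BasedFunctor.comp (AlgSt.overMap f) v
  obtain ⟨p, ζ, hζn, hζc, ⟨ip⟩⟩ := exists_descent_obj h c (mem_etale c) y (fun b b' e => φ b b' e)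
    (fun κ b b' e => isRes_comp_overMap v f rfl rfl (hnatv κ b b' e)) hmulv
  -- smoothness
  have hrep : AlgSt.RepByAlgSp1 p := repByAlgSp1_of_diag h𝒳 hd (repByAlgSp_overCat Z) p
  have hys : AlgSt.RepByAlgSpWith (AlgSp.LocP @Smooth) y := by
    refine repByAlgSpWith_comp good_smooth.bc good_smooth.comp good_smooth.det (isFibGrpd_overCat W)
      (isFibGrpd_overCat V) (repByAlgSpWith_overMap Groth.Agent.AlgSpCov.standard_smooth f ?_) hv
    change Smooth (w.left ≫ (s.u 1).left)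
    infer_instance
  have hp : AlgSt.RepByAlgSpWith (AlgSp.LocP @Smooth) p :=
    repByAlgSpWith_of_comp_cover good_smooth.bc good_smooth.det good_smooth
      (fun A B C hA hB hC => smooth_of_cover hA hB hC) (isFibGrpd_overCat W) (isFibGrpd_overCat Z) hrep
      (repByAlgSpWith_overMap Groth.Agent.AlgSpCov.standard_smooth c (inferInstance : Smooth c.left))
      (repByAlgSpWith_overMap_surjective c) (repByAlgSpWith_of_iso _ ip.symm hys)
  refine ⟨Z, hZ, p, gk, hp, ?_⟩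
  -- the point
  obtain ⟨aW, haW1, haW2⟩ := sq.exists_lift ((AlgSp.yon S).map a) ((AlgSp.yon S).map (extProj σ L ≫ gk))
    (by rw [Functor.map_comp, Category.assoc, hgk, hξ])
  obtain ⟨aW, rfl⟩ := (AlgSp.yon S).map_surjective aW
  rw [← Functor.map_comp] at haW1 haW2
  have haW1 : aW ≫ w = a := (AlgSp.yon S).map_injective haW1
  have haW2 : aW ≫ c = extProj σ L ≫ gk := (AlgSp.yon S).map_injective haW2
  have hf1 : aW ≫ f = sA.u 1 := by
    rw [← Category.assoc, haW1]; exact (ha 1 1).h_eq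
  have hwex : ∀ (g : G) (h₁ : extPt σ L ⟶ V), h₁ = sA.u g → ∃ w₁ : VHom v x h₁ (extProj σ L),
      (⟨h₁, extProj σ L, w₁⟩ : Pair v x (extPt σ L)) = ⟨sA.u g, extProj σ L, ω g⟩ := fun g h₁ e => by
    subst e; exact ⟨ω g, rfl⟩
  obtain ⟨wa, hwa⟩ := hwex 1 (aW ≫ f) hf1
  obtain ⟨B, -⟩ := exists_pairSp h𝒳 p x (repByAlgSp1_of_diag h𝒳 hd (repByAlgSp_overCat _) x)
  let d := extProj σ L ≫ gk
  let P1 : Pair p x (extPt σ L) := ⟨d, extProj σ L,
    ⟨((ζ aW d haW2).inv h𝒳).1 ≫ wa.1, ((ζ aW d haW2).inv h𝒳).2.comp wa.2⟩⟩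
  have hinv : ∀ γ : G, (AlgSp.yon S).map (galθ σ γ) ≫ (B.pts _).symm P1 = (B.pts _).symm P1 := by
    intro γ
    let b := galθ σ γ ≫ aW
    have hbw : b ≫ w = a ≫ act γ := by rw [Category.assoc, haW1, haγ]
    have eb : b ≫ c = d := by rw [Category.assoc, haW2, ← Category.assoc, galθ_proj]
    have hf2 : b ≫ f = sA.u γ := by
      rw [Category.assoc, hf1]
      have := (hω γ 1).left_eq
      rwa [mul_one] at this
    obtain ⟨wb, hwb⟩ := hwex γ (b ≫ f) hf2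
    have hφb : (⟨aW ≫ f, b ≫ f, φ aW b (haW2.trans eb.symm)⟩ : Pair v v (extPt σ L)) = sA.pair 1 γ := by
      apply (X.pts _).symm.injective
      have h1 := hloc (𝟙 _) aW b (haW2.trans eb.symm) a γ (by rw [Category.id_comp, haW1])
        (by rw [Category.id_comp, hbw])
      rw [CategoryTheory.Functor.map_id, Category.id_comp, X.map_symm h𝒳 (ha _ _), mul_one] at h1
      exact h1
    have key : ∀ (h₁ h₂ : extPt σ L ⟶ V) (w₁ : VHom v x h₁ (extProj σ L)) (w₂ : VHom v x h₂ (extProj σ L))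
        (φ₁ : VHom v v h₁ h₂),
        (⟨h₁, extProj σ L, w₁⟩ : Pair v x (extPt σ L)) = ⟨sA.u 1, extProj σ L, ω 1⟩ →
        (⟨h₂, extProj σ L, w₂⟩ : Pair v x (extPt σ L)) = ⟨sA.u γ, extProj σ L, ω γ⟩ →
        (⟨h₁, h₂, φ₁⟩ : Pair v v (extPt σ L)) = sA.pair 1 γ → φ₁.1 ≫ w₂.1 = w₁.1 := by
      intro h₁ h₂ w₁ w₂ φ₁ e1 e2 e3
      obtain rfl : h₁ = sA.u 1 := congrArg Pair.h e1
      obtain rfl : h₂ = sA.u γ := congrArg Pair.h e2
      injection e1 with _ _ e1'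
      injection e2 with _ _ e2'
      injection e3 with _ _ e3'
      rw [e1', e2', e3']
      exact hβω 1 γ
    have hkey := key _ _ _ _ _ hwa hwb hφb
    have hwres : IsRes (galθ σ γ) wb wa := by
      have h1 : (⟨sA.u γ, extProj σ L, ω γ⟩ : Pair v x (extPt σ L)).Res (galθ σ γ)
          ⟨sA.u 1, extProj σ L, ω 1⟩ := by
        have h2 := hω γ 1
        rw [mul_one] at h2
        exact h2
      rw [← hwa, ← hwb] at h1
      exact h1
    have hζres : IsRes (galθ σ γ) (ζ b d eb) (ζ aW d haW2) := by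
      have : ∀ (d' : extPt σ L ⟶ Z) (e' : b ≫ c = d'), d' = galθ σ γ ≫ d →
          IsRes (galθ σ γ) (ζ b d' e') (ζ aW d haW2) := by
        rintro d' e' rfl
        exact hζn _ _ _ _
      exact this d eb (by rw [← Category.assoc, galθ_proj])
    have hPb : (⟨d, extProj σ L, ⟨((ζ b d eb).inv h𝒳).1 ≫ wb.1, ((ζ b d eb).inv h𝒳).2.comp wb.2⟩⟩ :
        Pair p x (extPt σ L)).Res (galθ σ γ) P1 := IsRes.comp (IsRes.inv h𝒳 hζres) (isRes_left_overMap v x f rfl hwres)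
    have heq : ((ζ b d eb).inv h𝒳).1 ≫ wb.1 = ((ζ aW d haW2).inv h𝒳).1 ≫ wa.1 := by
      have := (ζ aW d haW2).2.isIso h𝒳
      rw [← cancel_epi (ζ aW d haW2).1, ← Category.assoc _ _ wa.1, VHom.comp_inv, Category.id_comp,
        ← hkey]
      conv_lhs => rw [← hζc aW b d haW2 eb, Category.assoc, ← Category.assoc (ζ b d eb).1, VHom.comp_inv]
      exact congrArg (_ ≫ ·) (Category.id_comp _)
    rw [B.map_symm h𝒳 hPb]
    exact congrArg (fun β => (B.pts _).symm (Pair.mk d (extProj σ L) β)) (Subtype.ext heq)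
  obtain ⟨r₀, hr₀⟩ := exists_descend_galois σ ((B.pts _).symm P1) hinv
  have hres₀ := B.res_of_map hr₀
  rw [Equiv.apply_symm_apply] at hres₀
  generalize B.pts (Over.mk σ) r₀ = P2 at hres₀
  obtain ⟨h₂, g₂, β₂⟩ := P2
  have := epi_extProj σ (L := L)
  have e₂ : h₂ = gk := (AlgSp.yon S).map_injective (by
    rw [← cancel_epi ((AlgSp.yon S).map (extProj σ L)), ← Functor.map_comp, ← Functor.map_comp]
    exact congrArg _ hres₀.h_eq)
  subst h₂
  obtain rfl : g₂ = 𝟙 (Over.mk σ) := (AlgSp.yon S).map_injective (by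
    rw [← cancel_epi ((AlgSp.yon S).map (extProj σ L)), ← Functor.map_comp, ← Functor.map_comp]
    exact congrArg _ (hres₀.g_eq.trans (Category.comp_id _).symm))
  obtain ⟨β₃, -⟩ := exists_isRes h𝒳 (𝟙 (Over.mk σ)) (rfl : 𝟙 _ ≫ gk = _) (Category.id_comp (𝟙 (Over.mk σ))) β₂
  have := β₃.2.isIso h𝒳
  obtain ⟨α, -⟩ := exists_overIso h𝒳 (BasedFunctor.comp (AlgSt.overMap gk) p) x (asIso β₃.1) β₃.2
  exact ⟨α⟩

end Groth.Agent.StFib.RatLift
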